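import Groth.Agent.Lib.NormalTensor.Main
import Groth.Agent.S12124
import Mathlib.RingTheory.DiscreteValuationRing.Basic
import Mathlib.RingTheory.TensorProduct.Finite

/-!
# Normality is preserved by base change along normal homomorphisms
-/

set_option linter.style.haveILetI false
set_option autoImplicit false

universe u

open TensorProduct

namespace Groth.Agent.Lib.NormalTensor.BaseChange

open Basic Field Main

variable {A A' : Type u} [CommRing A] [CommRing A'] [Algebra A A']

/-- Base change of a normal homomorphism to a field is normal. -/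
theorem isNormalRing_tensor_field (h : EGA4.IsNormalHom A A') (L : Type u) [Field L] [Algebra A L] :
    EGA4.IsNormalRing (A' ⊗[A] L) := by
  let p := RingHom.ker (algebraMap A L)
  haveI : p.IsPrime := RingHom.ker_isPrime _
  let ι : p.ResidueField →ₐ[A] L := Ideal.ResidueField.liftₐ p (Algebra.ofId A L) le_rfl
    fun x hx => isUnit_iff_ne_zero.2 hx
  letI : Algebra p.ResidueField L := ι.toRingHom.toAlgebra
  haveI : IsScalarTower A p.ResidueField L := IsScalarTower.of_algebraMap_eq fun a => (ι.commutes a).symm
  have h1 : EGA4.IsNormalRing (L ⊗[p.ResidueField] p.Fiber A') :=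
    (IsPINormal.of_isGeomNormal (h.2 p)).isNormalRing_tensor L
  exact isNormalRing_congr
    ((Algebra.TensorProduct.cancelBaseChange A p.ResidueField L L A').toRingEquiv.trans
      (Algebra.TensorProduct.comm A L A').toRingEquiv) h1

/-- Normality of a base change may be checked after localizing the factor. -/
theorem isNormalRing_tensor_of_local {B : Type u} [CommRing B] [Algebra A B]
    (h : ∀ (q : Ideal B) [q.IsPrime], EGA4.IsNormalRing (A' ⊗[A] Localization.AtPrime q)) :
    EGA4.IsNormalRing (A' ⊗[A] B) := by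
  refine isNormalRing_of_forall_localization fun P _ => ?_
  let ι := Algebra.TensorProduct.includeRight (R := A) (A := A') (B := B)
  let q := P.comap ι.toRingHom
  let B' := Localization.AtPrime q
  letI : Algebra (A' ⊗[A] B) (A' ⊗[A] B') :=
    (Algebra.TensorProduct.map (AlgHom.id A A') (IsScalarTower.toAlgHom A B B')).toRingHom.toAlgebra
  haveI : IsScalarTower A' (A' ⊗[A] B) (A' ⊗[A] B') :=
    .of_algebraMap_eq fun x => by simp [RingHom.algebraMap_toAlgebra]
  haveI := IsLocalization.tensorProduct_tensorProduct_right A A' q.primeCompl B'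
    (by ext; simp [RingHom.algebraMap_toAlgebra])
  refine ⟨_, _, inferInstance, q.primeCompl.map ι, inferInstance, ?_, h q⟩
  rintro _ ⟨a, ha, rfl⟩
  exact ha

/-- Over a discrete valuation ring the base change is integrally closed in the generic fibre. -/
theorem exists_preimage_dvr (h : EGA4.IsNormalHom A A') (V K : Type u) [CommRing V] [IsDomain V]
    [IsDiscreteValuationRing V] [Field K] [Algebra A V] [Algebra V K] [IsFractionRing V K] [Algebra A K]
    [IsScalarTower A V K] {z : A' ⊗[A] K}
    (hz : (Algebra.TensorProduct.map (AlgHom.id A A') (IsScalarTower.toAlgHom A V K)).toRingHom.IsIntegralElem z) :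
    ∃ u, Algebra.TensorProduct.map (AlgHom.id A A') (IsScalarTower.toAlgHom A V K) u = z := by
  haveI : Module.Flat A A' := h.1
  let φ := Algebra.TensorProduct.map (AlgHom.id A A') (IsScalarTower.toAlgHom A V K)
  have hφ : Function.Injective φ :=
    Module.Flat.lTensor_preserves_injective_linearMap (M := A') (IsScalarTower.toAlgHom A V K).toLinearMap
      (IsFractionRing.injective V K)
  obtain ⟨π, hπ⟩ := IsDiscreteValuationRing.exists_irreducible V
  have hπK : algebraMap V K π ≠ 0 := (map_ne_zero_iff _ (IsFractionRing.injective V K)).2 hπ.ne_zero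
  obtain ⟨P, hPdef⟩ : ∃ P : A' ⊗[A] V, P = 1 ⊗ₜ π := ⟨_, rfl⟩
  have hP : IsUnit (φ P) := by
    rw [hPdef]
    refine IsUnit.map (Algebra.TensorProduct.includeRight (R := A) (A := A') (B := K)) ?_
    exact isUnit_iff_ne_zero.2 hπK
  -- clear the denominators
  obtain ⟨n, u, hu⟩ : ∃ n u, φ u = φ P ^ n * z := by
    clear hz
    induction z using TensorProduct.induction_on with
    | zero => exact ⟨0, 0, by simp⟩
    | tmul a x =>
      obtain ⟨c, d, hd, rfl⟩ := IsFractionRing.div_surjective (A := V) x
      obtain ⟨n, w, hw⟩ := IsDiscreteValuationRing.eq_unit_mul_pow_irreducible (nonZeroDivisors.ne_zero hd) hπ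
      refine ⟨n, a ⊗ₜ (c * ↑w⁻¹), ?_⟩
      rw [hPdef]
      show a ⊗ₜ algebraMap V K (c * ↑w⁻¹) = ((1 : A') ⊗ₜ algebraMap V K π) ^ n * _
      rw [Algebra.TensorProduct.tmul_pow, one_pow, Algebra.TensorProduct.tmul_mul_tmul, one_mul]
      congr 1
      rw [hw, map_mul, map_mul, map_pow]
      have h1 : algebraMap V K (w : V) * algebraMap V K (↑w⁻¹ : V) = 1 := by
        rw [← map_mul, Units.mul_inv, map_one]
      have h2 : algebraMap V K (w : V) ≠ 0 := left_ne_zero_of_mul_eq_one h1
      field_simp
      linear_combination (algebraMap V K c) * h1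
    | add x y hx hy =>
      obtain ⟨n, u, hu⟩ := hx
      obtain ⟨m, v, hv⟩ := hy
      refine ⟨n + m, P ^ m * u + P ^ n * v, ?_⟩
      rw [map_add, map_mul, map_mul, map_pow, map_pow, hu, hv]
      ring
  induction n generalizing u with
  | zero => exact ⟨u, by rw [hu, pow_zero, one_mul]⟩
  | succ n ih =>
    obtain ⟨p, hp, hpz⟩ := hz
    let z' := φ P ^ n * z
    have hz' : φ u = φ P * z' := by rw [hu, pow_succ]; ring
    have hpz' : Polynomial.eval₂ φ.toRingHom z' (p.scaleRoots (P ^ n)) = 0 := by
      rw [show z' = φ.toRingHom (P ^ n) * z by simp [z'], Polynomial.scaleRoots_eval₂_mul, hpz, mul_zero]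
    set q := p.scaleRoots (P ^ n) with hqdef
    have hq : q.Monic := (Polynomial.monic_scaleRoots_iff _).2 hp
    have h0 : (q.scaleRoots P).eval u = 0 := by
      apply hφ
      rw [map_zero]
      change φ.toRingHom _ = 0
      rw [← Polynomial.eval₂_at_apply, show φ.toRingHom u = φ.toRingHom P * z' from hz',
        Polynomial.scaleRoots_eval₂_mul, hpz', mul_zero]
    -- modulo the uniformizer
    haveI : (Ideal.span {π}).IsMaximal := by
      rw [← hπ.maximalIdeal_eq]; infer_instance
    letI : Field (V ⧸ Ideal.span {π}) := Ideal.Quotient.field _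
    haveI : IsReduced (A' ⊗[A] (V ⧸ Ideal.span {π})) :=
      isReduced_of_isNormalRing (isNormalRing_tensor_field h _)
    let ψ := Algebra.TensorProduct.map (AlgHom.id A A') (Ideal.Quotient.mkₐ A (Ideal.span {π}))
    have hker : RingHom.ker ψ = Ideal.span {(1 : A') ⊗ₜ[A] π} := by
      rw [Algebra.TensorProduct.lTensor_ker _ (Ideal.Quotient.mkₐ_surjective A _),
        show RingHom.ker (Ideal.Quotient.mkₐ A (Ideal.span {π})) = Ideal.span {π} from Ideal.mk_ker,
        Ideal.map_span, Set.image_singleton]
      rfl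
    have hPψ : ψ P = 0 := by
      rw [← RingHom.mem_ker, hker, Ideal.mem_span_singleton]
      exact ⟨1, by rw [mul_one]; exact hPdef⟩
    have h1 : ψ u ^ q.natDegree = 0 := by
      have h := congrArg ψ h0
      rw [map_zero, Polynomial.eval_eq_sum_range, map_sum, Polynomial.natDegree_scaleRoots,
        Finset.sum_range_succ] at h
      rw [Finset.sum_eq_zero fun i hi => ?_, zero_add, Polynomial.coeff_scaleRoots_natDegree,
        hq.leadingCoeff, one_mul, map_pow] at h
      · exact h
      · rw [Polynomial.coeff_scaleRoots, map_mul, map_mul, map_pow, hPψ,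
          zero_pow (Nat.sub_ne_zero_of_lt (Finset.mem_range.1 hi)), mul_zero, zero_mul]
    have h2 : u ∈ RingHom.ker ψ := IsReduced.eq_zero _ ⟨_, h1⟩
    rw [hker, Ideal.mem_span_singleton] at h2
    obtain ⟨v, hv⟩ := h2
    refine ih v (hP.mul_left_cancel ?_)
    rw [← map_mul, show P * v = u by rw [hv]; congr 1, hu, pow_succ]
    ring

/-- Mori–Nagata: an integral element of the generic fibre comes from the normalization. -/
theorem exists_preimage_local (h : EGA4.IsNormalHom A A') (C : Type u) [CommRing C] [IsDomain C]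
    [IsNoetherianRing C] [IsLocalRing C] [Algebra A C] {z : A' ⊗[A] FractionRing C}
    (hz : (Algebra.TensorProduct.map (AlgHom.id A A')
      (IsScalarTower.toAlgHom A C (FractionRing C))).toRingHom.IsIntegralElem z) :
    ∃ u, Algebra.TensorProduct.map (AlgHom.id A A')
      (((integralClosure C (FractionRing C)).restrictScalars A).val) u = z := by
  classical
  haveI : Module.Flat A A' := h.1
  let K := FractionRing C
  let N : Subalgebra A K := (integralClosure C K).restrictScalars A
  let φC := Algebra.TensorProduct.map (AlgHom.id A A') (IsScalarTower.toAlgHom A C K)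
  let φN := Algebra.TensorProduct.map (AlgHom.id A A') N.val
  have hCN : ∀ c : C, algebraMap C K c ∈ N := fun c => (isIntegral_algebraMap (R := C) (A := K) (x := c) :)
  -- clear denominators
  obtain ⟨d, hd, w, hw⟩ : ∃ d : C, d ≠ 0 ∧ ∃ w, φC w = (1 : A') ⊗ₜ algebraMap C K d * z := by
    clear hz
    induction z using TensorProduct.induction_on with
    | zero => exact ⟨1, one_ne_zero, 0, by simp⟩
    | tmul a x =>
      obtain ⟨c, d, hd, rfl⟩ := IsFractionRing.div_surjective (A := C) x
      refine ⟨d, nonZeroDivisors.ne_zero hd, a ⊗ₜ c, ?_⟩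
      show a ⊗ₜ algebraMap C K c = _
      rw [Algebra.TensorProduct.tmul_mul_tmul, one_mul, mul_div_cancel₀]
      exact (map_ne_zero_iff _ (IsFractionRing.injective C K)).2 (nonZeroDivisors.ne_zero hd)
    | add x y hx hy =>
      obtain ⟨d, hd, u, hu⟩ := hx
      obtain ⟨e, he, v, hv⟩ := hy
      refine ⟨d * e, mul_ne_zero hd he, (1 : A') ⊗ₜ e * u + (1 : A') ⊗ₜ d * v, ?_⟩
      have hc : ∀ c : C, φC ((1 : A') ⊗ₜ c) = (1 : A') ⊗ₜ algebraMap C K c := fun c => rfl
      have hde : (1 : A') ⊗ₜ[A] algebraMap C K (d * e) = (1 : A') ⊗ₜ algebraMap C K d * (1 : A') ⊗ₜ algebraMap C K e := by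
        rw [Algebra.TensorProduct.tmul_mul_tmul, one_mul, map_mul]
      rw [map_add, map_mul, map_mul, hu, hv, hc, hc, hde]
      ring
  obtain ⟨T, hT, hV, hN, hfin⟩ := S12124.result (A := C)
  let Bad : Set (Ideal T) := {p | p.IsPrime ∧ p.height = 1 ∧
    ¬ ∃ s : T, s ∉ p ∧ IsIntegral T ((s : K) * (algebraMap C K d)⁻¹)}
  haveI : Finite Bad := (hfin _).to_subtype
  haveI : Fintype Bad := Fintype.ofFinite _
  have hVV : ∀ p : Bad, ∃ V : ValuationSubring K, IsDiscreteValuationRing V ∧
      ∀ x : K, x ∈ V ↔ ∃ s : T, s ∉ p.1 ∧ IsIntegral T ((s : K) * x) := fun p =>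
    haveI := p.2.1
    hV p.1 p.2.2.1
  choose V hVd hVmem using hVV
  have hNV : ∀ (p : Bad), ∀ x ∈ N, x ∈ V p := fun p x hx => by
    haveI := p.2.1
    exact (hVmem p x).2 ((hN x).1 hx p.1 p.2.2.1)
  have hdK : algebraMap C K d ≠ 0 := (map_ne_zero_iff _ (IsFractionRing.injective C K)).2 hd
  let dK : K := algebraMap C K d
  -- the lattice `d V` for a bad prime
  let M : Bad → Submodule A K := fun p =>
    { carrier := {x | dK⁻¹ * x ∈ V p}
      add_mem' := fun {x y} hx hy => by
        show dK⁻¹ * (x + y) ∈ V p
        rw [mul_add]; exact add_mem hx hy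
      zero_mem' := by show dK⁻¹ * 0 ∈ V p; rw [mul_zero]; exact zero_mem _
      smul_mem' := fun a x hx => by
        show dK⁻¹ * (a • x) ∈ V p
        rw [Algebra.smul_def, mul_left_comm, IsScalarTower.algebraMap_apply A C K]
        exact mul_mem (hNV p _ (hCN _)) hx }
  let ev : N →ₗ[A] ∀ p : Bad, K ⧸ M p := LinearMap.pi fun p => (M p).mkQ.comp N.val.toLinearMap
  let dN : N := ⟨dK, hCN d⟩
  have hex : Function.Exact (LinearMap.mulLeft A dN) ev := fun x => by
    constructor
    · intro hx
      have hy : IsIntegral C (dK⁻¹ * (x : K)) := by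
        refine (hN _).2 fun p _ hp => ?_
        by_cases hb : p ∈ Bad
        · have h1 : (x : K) ∈ M ⟨p, hb⟩ := (Submodule.Quotient.mk_eq_zero _).1 (congrFun hx ⟨p, hb⟩)
          exact (hVmem ⟨p, hb⟩ _).1 h1
        · have h1 : ∃ s : T, s ∉ p ∧ IsIntegral T ((s : K) * dK⁻¹) := by
            by_contra h2
            exact hb ⟨‹p.IsPrime›, hp, h2⟩
          obtain ⟨s, hs, hsd⟩ := h1
          obtain ⟨t, ht, htx⟩ := (hN (x : K)).1 x.2 p hp
          refine ⟨s * t, ‹p.IsPrime›.mul_notMem hs ht, ?_⟩
          have he : ((s * t : T) : K) * (dK⁻¹ * (x : K)) = ((s : K) * dK⁻¹) * ((t : K) * (x : K)) := by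
            push_cast; ring
          rw [he]
          exact hsd.mul htx
      exact ⟨⟨_, hy⟩, Subtype.ext (mul_inv_cancel_left₀ hdK (x : K))⟩
    · rintro ⟨y, rfl⟩
      funext p
      refine (Submodule.Quotient.mk_eq_zero _).2 ?_
      show dK⁻¹ * (dK * (y : K)) ∈ V p
      rw [inv_mul_cancel_left₀ hdK]
      exact hNV p _ y.2
  obtain ⟨y, hy, hyw⟩ : ∃ y, φN y = φC w ∧
      (TensorProduct.piRight A A A' fun p : Bad => K ⧸ M p) (ev.lTensor A' y) =
        fun p => (M p).mkQ.lTensor A' (φN y) := by
    let g : C →ₐ[A] N := (IsScalarTower.toAlgHom A C K).codRestrict N hCN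
    refine ⟨Algebra.TensorProduct.map (AlgHom.id A A') g w, ?_, ?_⟩
    · show (φN.comp (Algebra.TensorProduct.map (AlgHom.id A A') g)) w = φC w
      congr 1
      exact Algebra.TensorProduct.ext (by ext; rfl) (by ext; rfl)
    · generalize Algebra.TensorProduct.map (AlgHom.id A A') g w = y
      funext p
      induction y using TensorProduct.induction_on with
      | zero => simp
      | tmul a x => rfl
      | add x y hx hy => simp only [map_add, Pi.add_apply, hx, hy]
  have hker : ev.lTensor A' y = 0 := by
    refine (TensorProduct.piRight A A A' fun p : Bad => K ⧸ M p).injective ?_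
    rw [map_zero, hyw]
    funext p
    rw [hy, hw]
    haveI := hVd p
    letI : Algebra A (V p) := RingHom.toAlgebra (RingHom.codRestrict (algebraMap A K) (V p).toSubring fun a => by
      rw [IsScalarTower.algebraMap_apply A C K]
      exact hNV p _ (hCN _))
    haveI : IsScalarTower A (V p) K := IsScalarTower.of_algebraMap_eq fun _ => rfl
    let g : C →ₐ[A] V p :=
      { RingHom.codRestrict (algebraMap C K) (V p).toSubring fun c => hNV p _ (hCN c) with
        commutes' := fun a => Subtype.ext (IsScalarTower.algebraMap_apply A C K a).symm }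
    obtain ⟨q, hq, hqz⟩ := hz
    obtain ⟨u, hu⟩ := exists_preimage_dvr h (V p) K (z := z)
      ⟨q.map (Algebra.TensorProduct.map (AlgHom.id A A') g).toRingHom, hq.map _, by
        rw [Polynomial.eval₂_map]
        have hc : (Algebra.TensorProduct.map (AlgHom.id A A') (IsScalarTower.toAlgHom A (V p) K)).comp
            (Algebra.TensorProduct.map (AlgHom.id A A') g) = φC :=
          Algebra.TensorProduct.ext (by ext; rfl) (by ext; rfl)
        change Polynomial.eval₂ ((Algebra.TensorProduct.map (AlgHom.id A A') (IsScalarTower.toAlgHom A (V p) K)).comp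
            (Algebra.TensorProduct.map (AlgHom.id A A') g)).toRingHom z q = 0
        rw [hc]
        exact hqz⟩
    rw [← hu]
    clear hu hqz
    induction u using TensorProduct.induction_on with
    | zero => simp
    | tmul a v =>
      rw [Algebra.TensorProduct.map_tmul, Algebra.TensorProduct.tmul_mul_tmul, one_mul,
        LinearMap.lTensor_tmul]
      refine Eq.trans (congrArg (a ⊗ₜ[A] ·) ?_) (TensorProduct.tmul_zero _ a)
      refine (Submodule.Quotient.mk_eq_zero _).2 ?_
      show dK⁻¹ * (dK * (v : K)) ∈ V p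
      rw [inv_mul_cancel_left₀ hdK]
      exact v.2
    | add x y hx hy => rw [map_add, mul_add, map_add, hx, hy, Pi.zero_apply, add_zero]
  obtain ⟨y', hy'⟩ := (Module.Flat.lTensor_exact A' hex y).1 hker
  refine ⟨y', ?_⟩
  have hu : IsUnit ((1 : A') ⊗ₜ[A] dK) :=
    IsUnit.map (Algebra.TensorProduct.includeRight (R := A) (A := A') (B := K)) (isUnit_iff_ne_zero.2 hdK)
  refine hu.mul_left_cancel ?_
  rw [← hw, ← hy, ← hy']
  clear hy' hyw hker hy
  induction y' using TensorProduct.induction_on with
  | zero => simp
  | tmul a x =>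
    rw [LinearMap.lTensor_tmul]
    show _ * a ⊗ₜ (x : K) = a ⊗ₜ[A] (dK * (x : K))
    rw [Algebra.TensorProduct.tmul_mul_tmul, one_mul]
  | add x y hx hy => rw [map_add, mul_add, map_add, map_add, hx, hy]

/-- Base change of a normal ring along a normal homomorphism is normal. -/
theorem isNormalRing_tensor [IsNoetherianRing A] [IsNoetherianRing A'] (h : EGA4.IsNormalHom A A')
    {B : Type u} [CommRing B] [Algebra A B] (hB : EGA4.IsNormalRing B) :
    EGA4.IsNormalRing (A' ⊗[A] B) := by
  classical
  refine isNormalRing_tensor_of_local fun q _ => ?_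
  obtain ⟨_, _⟩ := hB q
  haveI : Module.Flat A A' := h.1
  let B' := Localization.AtPrime q
  let L := FractionRing B'
  let fB := IsScalarTower.toAlgHom A B' L
  let i := Algebra.TensorProduct.map (AlgHom.id A A') fB
  have hi : Function.Injective i :=
    Module.Flat.lTensor_preserves_injective_linearMap (M := A') fB.toLinearMap (IsFractionRing.injective B' L)
  refine isNormalRing_of_isIntegrallyClosedIn i.toRingHom hi (fun z hz => ?_) fun s => ?_
  · obtain ⟨p, hp, hpz⟩ := hz
    rcases subsingleton_or_nontrivial (A' ⊗[A] L) with hT | hT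
    · exact ⟨0, Subsingleton.elim _ _⟩
    haveI : Nontrivial (A' ⊗[A] B') := i.toRingHom.domain_nontrivial
    obtain ⟨d, hd, w, hw⟩ : ∃ d : B', d ≠ 0 ∧ ∃ w, i w = (1 : A') ⊗ₜ algebraMap B' L d * z := by
      clear hpz
      induction z using TensorProduct.induction_on with
      | zero => exact ⟨1, one_ne_zero, 0, by simp⟩
      | tmul a x =>
        obtain ⟨c, d, hd, rfl⟩ := IsFractionRing.div_surjective (A := B') x
        refine ⟨d, nonZeroDivisors.ne_zero hd, a ⊗ₜ c, ?_⟩
        show a ⊗ₜ algebraMap B' L c = _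
        rw [Algebra.TensorProduct.tmul_mul_tmul, one_mul, mul_div_cancel₀]
        exact (map_ne_zero_iff _ (IsFractionRing.injective B' L)).2 (nonZeroDivisors.ne_zero hd)
      | add x y hx hy =>
        obtain ⟨d, hd, u, hu⟩ := hx
        obtain ⟨e, he, v, hv⟩ := hy
        refine ⟨d * e, mul_ne_zero hd he, (1 : A') ⊗ₜ e * u + (1 : A') ⊗ₜ d * v, ?_⟩
        have hc : ∀ c : B', i ((1 : A') ⊗ₜ c) = (1 : A') ⊗ₜ algebraMap B' L c := fun c => rfl
        have hde : (1 : A') ⊗ₜ[A] algebraMap B' L (d * e) = (1 : A') ⊗ₜ algebraMap B' L d * (1 : A') ⊗ₜ algebraMap B' L e := by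
          rw [Algebra.TensorProduct.tmul_mul_tmul, one_mul, map_mul]
        rw [map_add, map_mul, map_mul, hu, hv, hc, hc, hde]
        ring
    have hfin : ∀ x : A' ⊗[A] B', ∃ t : Finset B', ∀ S : Subalgebra A B', ↑t ⊆ (S : Set B') →
        x ∈ (Algebra.TensorProduct.map (AlgHom.id A A') S.val).range := by
      intro x
      induction x using TensorProduct.induction_on with
      | zero => exact ⟨∅, fun _ _ => zero_mem _⟩
      | tmul a b => exact ⟨{b}, fun S h => ⟨a ⊗ₜ ⟨b, h (by simp)⟩, rfl⟩⟩
      | add x y hx hy =>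
        obtain ⟨t, ht⟩ := hx
        obtain ⟨t', ht'⟩ := hy
        exact ⟨t ∪ t', fun S h => add_mem
          (ht S ((Finset.coe_subset.2 Finset.subset_union_left).trans h))
          (ht' S ((Finset.coe_subset.2 Finset.subset_union_right).trans h))⟩
    choose t ht using hfin
    let gen : Finset B' := insert d (t w ∪ p.coeffs.biUnion t)
    let S := Algebra.adjoin A (gen : Set B')
    have hgen : (gen : Set B') ⊆ S := Algebra.subset_adjoin
    haveI : Algebra.FiniteType A S := (Subalgebra.fg_iff_finiteType S).1 ⟨gen, rfl⟩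
    haveI : IsNoetherianRing S := Algebra.FiniteType.isNoetherianRing A S
    let m := (IsLocalRing.maximalIdeal B').comap (algebraMap S B')
    let C := Localization.AtPrime m
    let g : C →ₐ[A] B' := IsLocalization.liftAlgHom (M := m.primeCompl) (f := S.val) fun x =>
      of_not_not fun hx => x.2 ((IsLocalRing.mem_maximalIdeal _).2 hx)
    have hg : Function.Injective g :=
      (IsLocalization.lift_injective_iff (M := m.primeCompl) (S := C) (g := S.val.toRingHom) (fun x =>
        of_not_not fun hx => x.2 ((IsLocalRing.mem_maximalIdeal _).2 hx))).2 fun a b =>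
          (IsLocalization.injective C m.primeCompl_le_nonZeroDivisors).eq_iff.trans Subtype.val_injective.eq_iff.symm
    have hgS : ∀ x : S, g (algebraMap S C x) = x := fun x => IsLocalization.lift_eq _ x
    let K := FractionRing C
    have hgL : Function.Injective (fB.comp g) := (IsFractionRing.injective B' L).comp hg
    let j : K →ₐ[A] L :=
      { IsFractionRing.lift (A := C) (K := K) (g := (fB.comp g).toRingHom) hgL with
        commutes' := fun a => (IsFractionRing.lift_algebraMap hgL _).trans ((fB.comp g).commutes a) }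
    have hj : ∀ c : C, j (algebraMap C K c) = algebraMap B' L (g c) := fun c =>
      IsFractionRing.lift_algebraMap hgL c
    let J := Algebra.TensorProduct.map (AlgHom.id A A') j
    have hJ : Function.Injective J :=
      Module.Flat.lTensor_preserves_injective_linearMap (M := A') j.toLinearMap j.toRingHom.injective
    let φC := Algebra.TensorProduct.map (AlgHom.id A A') (IsScalarTower.toAlgHom A C K)
    let γ := Algebra.TensorProduct.map (AlgHom.id A A') g
    have hJφ : ∀ x, J (φC x) = i (γ x) := fun x => by
      induction x using TensorProduct.induction_on with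
      | zero => simp
      | tmul a c => show a ⊗ₜ j (algebraMap C K c) = a ⊗ₜ algebraMap B' L (g c); rw [hj]
      | add x y hx hy => simp only [map_add, hx, hy]
    have hlift : ∀ x, ↑(t x) ⊆ (S : Set B') → x ∈ γ.range := fun x hx => by
      obtain ⟨x', hx'⟩ := ht x S hx
      refine ⟨Algebra.TensorProduct.map (AlgHom.id A A') (IsScalarTower.toAlgHom A S C) x', ?_⟩
      rw [← hx']
      show (γ.comp (Algebra.TensorProduct.map (AlgHom.id A A') (IsScalarTower.toAlgHom A S C))) x' = _
      congr 1
      exact Algebra.TensorProduct.ext (by ext; simp [γ]) (AlgHom.ext fun x => congrArg ((1 : A') ⊗ₜ[A] ·) (hgS x))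
    obtain ⟨w', hw'⟩ := hlift w fun x hx => hgen (Finset.mem_insert_of_mem (Finset.mem_union_left _ hx))
    have hpl : p ∈ Polynomial.lifts γ.toRingHom := by
      rw [Polynomial.lifts_iff_coeff_lifts]
      intro k
      by_cases hk : p.coeff k = 0
      · exact ⟨0, by rw [hk, map_zero]⟩
      · exact hlift _ fun x hx => hgen (Finset.mem_insert_of_mem (Finset.mem_union_right _
          (Finset.mem_biUnion.2 ⟨_, Polynomial.coeff_mem_coeffs hk, hx⟩)))
    haveI : Nontrivial (A' ⊗[A] C) := γ.toRingHom.domain_nontrivial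
    obtain ⟨p', hp'map, -, hp'⟩ := Polynomial.lifts_and_degree_eq_and_monic hpl hp
    let d' : C := algebraMap S C ⟨d, hgen (Finset.mem_insert_self _ _)⟩
    have hd' : algebraMap C K d' ≠ 0 := (map_ne_zero_iff _ (IsFractionRing.injective C K)).2 fun h0 => hd (by
      have := congrArg g h0
      rwa [hgS, map_zero] at this)
    let z₀ : A' ⊗[A] K := (1 : A') ⊗ₜ (algebraMap C K d')⁻¹ * φC w'
    have hz₀ : J z₀ = z := by
      rw [map_mul, hJφ, show γ w' = w from hw', hw, Algebra.TensorProduct.map_tmul, ← mul_assoc,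
        Algebra.TensorProduct.tmul_mul_tmul, map_one, one_mul, map_inv₀, hj, hgS,
        inv_mul_cancel₀ ((map_ne_zero_iff _ (IsFractionRing.injective B' L)).2 hd), ← Algebra.TensorProduct.one_def,
        one_mul]
    obtain ⟨u, hu⟩ := exists_preimage_local h C (z := z₀) ⟨p', hp', hJ (by
      show J.toRingHom (Polynomial.eval₂ φC.toRingHom z₀ p') = J 0
      rw [map_zero, Polynomial.hom_eval₂, show J.toRingHom.comp φC.toRingHom = i.toRingHom.comp γ.toRingHom from
        RingHom.ext hJφ, ← Polynomial.eval₂_map, hp'map]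
      show Polynomial.eval₂ i.toRingHom (J z₀) p = 0
      rw [hz₀, hpz])⟩
    -- the normalization maps into `B'`
    let N : Subalgebra A K := (integralClosure C K).restrictScalars A
    have hNB : ∀ x : N, ∃ b, algebraMap B' L b = j x := fun x => by
      refine (isIntegrallyClosed_iff L).1 inferInstance ?_
      obtain ⟨q, hq, hqx⟩ := x.2
      refine ⟨q.map g.toRingHom, hq.map _, ?_⟩
      rw [Polynomial.eval₂_map, ← show j.toRingHom.comp (algebraMap C K) = (algebraMap B' L).comp g.toRingHom from
        RingHom.ext hj]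
      exact (Polynomial.hom_eval₂ q (algebraMap C K) j.toRingHom _).symm.trans
        ((congrArg j.toRingHom hqx).trans (map_zero _))
    have hmem : J z₀ ∈ i.range := by
      rw [← hu]
      clear hu
      induction u using TensorProduct.induction_on with
      | zero => simp
      | tmul a x =>
        obtain ⟨b, hb⟩ := hNB x
        exact ⟨a ⊗ₜ b, congrArg (a ⊗ₜ[A] ·) hb⟩
      | add x y hx hy => rw [map_add, map_add]; exact add_mem hx hy
    rw [hz₀] at hmem
    exact hmem
  · -- finitely many elements live over a finitely generated field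
    let p := RingHom.ker (algebraMap A L)
    haveI : p.IsPrime := RingHom.ker_isPrime _
    let ι : p.ResidueField →ₐ[A] L := Ideal.ResidueField.liftₐ p (Algebra.ofId A L) le_rfl
      fun x hx => isUnit_iff_ne_zero.2 hx
    letI : Algebra p.ResidueField L := ι.toRingHom.toAlgebra
    haveI : IsScalarTower A p.ResidueField L := IsScalarTower.of_algebraMap_eq fun a => (ι.commutes a).symm
    have hfin : ∀ x : A' ⊗[A] L, ∃ t : Finset L, ∀ L₀ : IntermediateField p.ResidueField L,
        ↑t ⊆ (L₀ : Set L) →
        x ∈ (Algebra.TensorProduct.map (AlgHom.id A A') (L₀.val.restrictScalars A)).range := by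
      intro x
      induction x using TensorProduct.induction_on with
      | zero => exact ⟨∅, fun _ _ => zero_mem _⟩
      | tmul a b => exact ⟨{b}, fun L₀ h => ⟨a ⊗ₜ ⟨b, h (by simp)⟩, rfl⟩⟩
      | add x y hx hy =>
        obtain ⟨t, ht⟩ := hx
        obtain ⟨t', ht'⟩ := hy
        exact ⟨t ∪ t', fun L₀ h => add_mem
          (ht L₀ ((Finset.coe_subset.2 Finset.subset_union_left).trans h))
          (ht' L₀ ((Finset.coe_subset.2 Finset.subset_union_right).trans h))⟩
    choose t ht using hfin
    let L₀ := IntermediateField.adjoin p.ResidueField ((s.biUnion fun r => t (i r) : Finset L) : Set L)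
    haveI : Algebra.EssFiniteType p.ResidueField L₀ :=
      IntermediateField.essFiniteType_iff.2 (IntermediateField.fg_adjoin_finset _)
    haveI : Algebra.EssFiniteType A L₀ := Algebra.EssFiniteType.comp A p.ResidueField L₀
    refine ⟨A' ⊗[A] L₀, inferInstance,
      (Algebra.TensorProduct.map (AlgHom.id A A') (L₀.val.restrictScalars A)).toRingHom,
      Algebra.EssFiniteType.isNoetherianRing A' _, isNormalRing_tensor_field h L₀,
      Module.Flat.lTensor_preserves_injective_linearMap (M := A') (L₀.val.restrictScalars A).toLinearMap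
        Subtype.val_injective, fun r hr => ?_⟩
    obtain ⟨w, hw⟩ := ht (i r) L₀ (fun x hx => IntermediateField.subset_adjoin _ _
      (Finset.mem_coe.2 (Finset.mem_biUnion.2 ⟨r, hr, hx⟩)))
    exact ⟨w, hw⟩

end Groth.Agent.Lib.NormalTensor.BaseChange
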