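import Groth.Agent.Lib.NormalTensor.Field
import Groth.Agent.S9412
import Mathlib.RingTheory.EssentialFiniteness
import Mathlib.LinearAlgebra.Basis.VectorSpace

/-!
# Tensor products of normal rings over a field
-/

set_option linter.style.haveILetI false
set_option autoImplicit false

universe u

open TensorProduct

namespace Groth.Agent.Lib.NormalTensor.Main

open Basic Field

variable (k : Type u) [Field k]

theorem isNormalRing_of_domain {B : Type u} [CommRing B] [IsDomain B] [IsIntegrallyClosed B] :
    EGA4.IsNormalRing B :=
  fun P _ => ⟨inferInstance, isIntegrallyClosed_of_isLocalization (Localization.AtPrime P) P.primeCompl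
    P.primeCompl_le_nonZeroDivisors⟩

theorem isNormalRing_field {K : Type u} [Field K] : EGA4.IsNormalRing K := isNormalRing_of_domain

/-- Normality of a tensor product may be checked after localizing a factor. -/
theorem isNormalRing_tensor_of_local {A B : Type u} [CommRing A] [Algebra k A] [CommRing B] [Algebra k B]
    (h : ∀ (p : Ideal A) [p.IsPrime], EGA4.IsNormalRing (B ⊗[k] Localization.AtPrime p)) :
    EGA4.IsNormalRing (B ⊗[k] A) := by
  refine isNormalRing_of_forall_localization fun P _ => ?_
  let ι := Algebra.TensorProduct.includeRight (R := k) (A := B) (B := A)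
  let p := P.comap ι.toRingHom
  let A' := Localization.AtPrime p
  letI : Algebra (B ⊗[k] A) (B ⊗[k] A') :=
    (Algebra.TensorProduct.map (AlgHom.id k B) (IsScalarTower.toAlgHom k A A')).toRingHom.toAlgebra
  haveI : IsScalarTower B (B ⊗[k] A) (B ⊗[k] A') :=
    .of_algebraMap_eq fun x => by simp [RingHom.algebraMap_toAlgebra]
  haveI := IsLocalization.tensorProduct_tensorProduct_right k B p.primeCompl A'
    (by ext; simp [RingHom.algebraMap_toAlgebra])
  refine ⟨_, _, inferInstance, p.primeCompl.map ι, inferInstance, ?_, h p⟩
  rintro _ ⟨a, ha, rfl⟩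
  exact ha

section domains

variable {A B K L : Type u} [CommRing A] [CommRing B] [Field K] [Field L]
  [Algebra k A] [Algebra k B] [Algebra k K] [Algebra k L]
  [Algebra A K] [IsFractionRing A K] [IsScalarTower k A K]
  [Algebra B L] [IsFractionRing B L] [IsScalarTower k B L]

/-- `A ⊗ E` is integrally closed in `K ⊗ E`. -/
theorem exists_preimage_map {E : Type u} [Field E] [Algebra k E] [Nontrivial A]
    (hA : EGA4.IsNormalRing (E ⊗[k] A)) {z : E ⊗[k] K}
    (hz : (Algebra.TensorProduct.map (AlgHom.id k E) (IsScalarTower.toAlgHom k A K)).toRingHom.IsIntegralElem z) :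
    ∃ w, Algebra.TensorProduct.map (AlgHom.id k E) (IsScalarTower.toAlgHom k A K) w = z := by
  letI : Algebra (E ⊗[k] A) (E ⊗[k] K) :=
    (Algebra.TensorProduct.map (AlgHom.id k E) (IsScalarTower.toAlgHom k A K)).toRingHom.toAlgebra
  haveI : IsScalarTower E (E ⊗[k] A) (E ⊗[k] K) :=
    .of_algebraMap_eq fun x => by simp [RingHom.algebraMap_toAlgebra]
  haveI := IsLocalization.tensorProduct_tensorProduct_right k E (nonZeroDivisors A) K
    (by ext; simp [RingHom.algebraMap_toAlgebra])
  refine exists_preimage_of_isIntegral hA
    ((nonZeroDivisors A).map (Algebra.TensorProduct.includeRight (R := k) (A := E))) ?_ hz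
  rintro _ ⟨a, ha, rfl⟩
  rw [mem_nonZeroDivisors_iff_right]
  intro y hy
  have hinj : Function.Injective (Algebra.TensorProduct.map (AlgHom.id k E) (IsScalarTower.toAlgHom k A K)) :=
    Module.Flat.lTensor_preserves_injective_linearMap (M := E) (IsScalarTower.toAlgHom k A K).toLinearMap
      (IsFractionRing.injective A K)
  have hu : IsUnit (algebraMap (E ⊗[k] A) (E ⊗[k] K) (Algebra.TensorProduct.includeRight (R := k) (A := E) a)) :=
    IsLocalization.map_units (E ⊗[k] K) (⟨_, Submonoid.mem_map_of_mem _ ha⟩ :
      (nonZeroDivisors A).map (Algebra.TensorProduct.includeRight (R := k) (A := E)))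
  have h0 := congrArg (algebraMap (E ⊗[k] A) (E ⊗[k] K)) hy
  rw [map_mul, map_zero] at h0
  exact hinj (by rw [map_zero]; exact hu.mul_left_eq_zero.1 h0)

/-- Two normal domains with one separable fraction field have normal tensor product. -/
theorem isNormalRing_tensor_of_domains [IsDomain A] [IsDomain B]
    (hA : EGA4.IsNormalRing (L ⊗[k] A)) (hB : EGA4.IsNormalRing (K ⊗[k] B))
    (hKL : ∀ L₀ : IntermediateField k L, L₀.FG → EGA4.IsNormalRing (K ⊗[k] L₀)) :
    EGA4.IsNormalRing (A ⊗[k] B) := by
  classical
  let fA := IsScalarTower.toAlgHom k A K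
  let fB := IsScalarTower.toAlgHom k B L
  let i : A ⊗[k] B →ₐ[k] K ⊗[k] L := Algebra.TensorProduct.map fA fB
  have hfA : Function.Injective fA.toLinearMap := IsFractionRing.injective A K
  have hfB : Function.Injective fB.toLinearMap := IsFractionRing.injective B L
  have hi : Function.Injective i := TensorProduct.map_injective_of_flat_flat fA.toLinearMap fB.toLinearMap hfA hfB
  refine isNormalRing_of_isIntegrallyClosedIn i.toRingHom hi (fun z hz => ?_) fun s => ?_
  · obtain ⟨p, hp, hpz⟩ := hz
    let iA : A ⊗[k] L →ₐ[k] K ⊗[k] L := Algebra.TensorProduct.map fA (AlgHom.id k L)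
    let iB : K ⊗[k] B →ₐ[k] K ⊗[k] L := Algebra.TensorProduct.map (AlgHom.id k K) fB
    obtain ⟨w, hw⟩ : ∃ w, iA w = z := by
      let cA := Algebra.TensorProduct.comm k A L
      let cK := Algebra.TensorProduct.comm k K L
      let jA := (Algebra.TensorProduct.map (AlgHom.id k L) fA).comp
        (cA.toAlgHom.comp (Algebra.TensorProduct.map (AlgHom.id k A) fB))
      have hj : jA = cK.toAlgHom.comp i := Algebra.TensorProduct.ext (by ext; rfl) (by ext; rfl)
      obtain ⟨w, hw⟩ := exists_preimage_map k (K := K) hA (z := cK z)
        ⟨p.map (cA.toAlgHom.comp (Algebra.TensorProduct.map (AlgHom.id k A) fB)).toRingHom, hp.map _, by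
          rw [Polynomial.eval₂_map]
          change Polynomial.eval₂ jA.toRingHom (cK z) p = 0
          rw [hj]
          exact (Polynomial.hom_eval₂ p i.toRingHom cK.toAlgHom.toRingHom z).symm.trans
            ((congrArg cK hpz).trans (map_zero _))⟩
      refine ⟨cA.symm w, cK.injective ?_⟩
      rw [← hw]
      show (cK.toAlgHom.comp (iA.comp cA.symm.toAlgHom)) w = _
      congr 1
      exact Algebra.TensorProduct.ext (by ext; rfl) (by ext; rfl)
    obtain ⟨v, hv⟩ : ∃ v, iB v = z := exists_preimage_map k (K := L) hB
      ⟨p.map (Algebra.TensorProduct.map fA (AlgHom.id k B)).toRingHom, hp.map _, by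
        rw [Polynomial.eval₂_map]
        have hj : iB.comp (Algebra.TensorProduct.map fA (AlgHom.id k B)) = i :=
          Algebra.TensorProduct.ext (by ext; rfl) (by ext; rfl)
        change Polynomial.eval₂ (iB.comp (Algebra.TensorProduct.map fA (AlgHom.id k B))).toRingHom z p = 0
        rw [hj]
        exact hpz⟩
    -- the intersection
    obtain ⟨r, hr⟩ := fA.toLinearMap.exists_leftInverse_of_injective (LinearMap.ker_eq_bot.2 hfA)
    refine ⟨LinearMap.rTensor B r v, ?_⟩
    have key : (fA.toLinearMap.comp r).rTensor L z = z := by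
      rw [← hw, show iA w = fA.toLinearMap.rTensor L w from rfl, ← LinearMap.rTensor_comp_apply,
        LinearMap.comp_assoc, hr, LinearMap.comp_id]
    refine Eq.trans ?_ key
    rw [← hv]
    clear hv key
    induction v using TensorProduct.induction_on with
    | zero => simp
    | tmul x y => rfl
    | add x y hx hy => simp only [map_add, hx, hy]
  · -- finitely many elements live over a finitely generated subfield
    have hfin : ∀ x : K ⊗[k] L, ∃ t : Finset L, ∀ L₀ : IntermediateField k L, ↑t ⊆ (L₀ : Set L) →
        x ∈ (Algebra.TensorProduct.map (AlgHom.id k K) L₀.val).range := by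
      intro x
      induction x using TensorProduct.induction_on with
      | zero => exact ⟨∅, fun _ _ => zero_mem _⟩
      | tmul a b => exact ⟨{b}, fun L₀ h => ⟨a ⊗ₜ ⟨b, h (by simp)⟩, rfl⟩⟩
      | add x y hx hy =>
        obtain ⟨t, ht⟩ := hx
        obtain ⟨t', ht'⟩ := hy
        exact ⟨t ∪ t', fun L₀ h => add_mem
          (ht L₀ ((Finset.coe_subset.2 Finset.subset_union_left).trans h))
          (ht' L₀ ((Finset.coe_subset.2 Finset.subset_union_right).trans h))⟩
    choose t ht using hfin
    let L₀ := IntermediateField.adjoin k ((s.biUnion fun r => t (i r) : Finset L) : Set L)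
    have hfg : L₀.FG := IntermediateField.fg_adjoin_finset _
    haveI : Algebra.EssFiniteType k L₀ := IntermediateField.essFiniteType_iff.2 hfg
    refine ⟨K ⊗[k] L₀, inferInstance, (Algebra.TensorProduct.map (AlgHom.id k K) L₀.val).toRingHom,
      Algebra.EssFiniteType.isNoetherianRing K _, hKL L₀ hfg,
      Module.Flat.lTensor_preserves_injective_linearMap (M := K) L₀.val.toLinearMap Subtype.val_injective,
      fun r hr => ?_⟩
    obtain ⟨w, hw⟩ := ht (i r) L₀ (fun x hx => IntermediateField.subset_adjoin k _
      (Finset.mem_coe.2 (Finset.mem_biUnion.2 ⟨r, hr, hx⟩)))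
    exact ⟨w, hw⟩

end domains

/-- Normal algebras with separable residue fields at the minimal primes. -/
theorem isNormalRing_tensor {A B : Type u} [CommRing A] [Algebra k A] [CommRing B] [Algebra k B]
    (hA : IsPINormal k A) (hB : EGA4.IsNormalRing B) : EGA4.IsNormalRing (A ⊗[k] B) := by
  refine isNormalRing_tensor_of_local k fun q _ => isNormalRing_comm k
    (isNormalRing_tensor_of_local k fun p _ => isNormalRing_comm k ?_)
  let A' := Localization.AtPrime p
  let B' := Localization.AtPrime q
  have hA' : IsPINormal k A' := fun k' _ _ hfin hpi => by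
    letI : Algebra (k' ⊗[k] A) (k' ⊗[k] A') :=
      (Algebra.TensorProduct.map (AlgHom.id k k') (IsScalarTower.toAlgHom k A A')).toRingHom.toAlgebra
    haveI : IsScalarTower k' (k' ⊗[k] A) (k' ⊗[k] A') :=
      .of_algebraMap_eq fun x => by simp [RingHom.algebraMap_toAlgebra]
    haveI := IsLocalization.tensorProduct_tensorProduct_right k k' p.primeCompl A'
      (by ext; simp [RingHom.algebraMap_toAlgebra])
    exact Excellent.NormalRing.isNormalRing_of_isLocalization
      (p.primeCompl.map (Algebra.TensorProduct.includeRight (R := k) (A := k'))) (hA k' hfin hpi)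
  obtain ⟨_, _⟩ := hB q
  obtain ⟨_, _⟩ : IsDomain A' ∧ IsIntegrallyClosed A' :=
    (isNormalRing_congr (Algebra.TensorProduct.lid k A).toRingEquiv
      (hA k inferInstance inferInstance)) p
  haveI : Algebra.IsGeometricallyReduced k (FractionRing A') := by
    rw [Algebra.isGeometricallyReduced_field_iff]
    refine isReduced_of_isNormalRing ?_
    let K := AlgebraicClosure k
    letI : Algebra (K ⊗[k] A') (K ⊗[k] FractionRing A') :=
      (Algebra.TensorProduct.map (AlgHom.id k K) (IsScalarTower.toAlgHom k A' _)).toRingHom.toAlgebra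
    haveI : IsScalarTower K (K ⊗[k] A') (K ⊗[k] FractionRing A') :=
      IsScalarTower.of_algebraMap_eq (R := K) (S := K ⊗[k] A') (A := K ⊗[k] FractionRing A') fun x => by
        simp [RingHom.algebraMap_toAlgebra]
    haveI := IsLocalization.tensorProduct_tensorProduct_right k K (nonZeroDivisors A') (FractionRing A')
      (by ext; simp [RingHom.algebraMap_toAlgebra])
    exact Excellent.NormalRing.isNormalRing_of_isLocalization
      ((nonZeroDivisors A').map (Algebra.TensorProduct.includeRight (R := k) (A := K)))
      (hA'.isNormalRing_tensor K)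
  exact isNormalRing_tensor_of_domains k (K := FractionRing A') (L := FractionRing B')
    (hA'.isNormalRing_tensor _)
    (isNormalRing_tensor_of_geometricallyReduced k (hB := isNormalRing_of_domain))
    fun L₀ _ => isNormalRing_tensor_of_geometricallyReduced k (hB := isNormalRing_field)

end Groth.Agent.Lib.NormalTensor.Main
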