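import Groth.Agent.Lib.NormalTensor.Basic
import Groth.Agent.Lib.DescAlg.SmoothNormal
import Groth.Agent.Lib.PBasis.MacLane
import Groth.Agent.S6280
import Mathlib.FieldTheory.SeparablyGenerated
import Mathlib.FieldTheory.PurelyInseparable.PerfectClosure
import Mathlib.RingTheory.Smooth.Field
import Mathlib.RingTheory.Etale.Field
import Mathlib.RingTheory.AlgebraicIndependent.Adjoin

/-!
# Normality of base changes to field extensions
-/

set_option linter.style.haveILetI false
set_option autoImplicit false

universe u

open TensorProduct

namespace Groth.Agent.Lib.NormalTensor.Field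

open Basic

variable (k : Type u) [Field k]

theorem isNormalRing_comm {A B : Type u} [CommRing A] [Algebra k A] [CommRing B] [Algebra k B]
    (h : EGA4.IsNormalRing (A ⊗[k] B)) : EGA4.IsNormalRing (B ⊗[k] A) :=
  isNormalRing_congr (Algebra.TensorProduct.comm k A B).toRingEquiv h

/-- Tensor products commute with directed unions of subalgebras. -/
theorem isNormalRing_tensor_of_directed {A B : Type u} [CommRing A] [Algebra k A] [CommRing B]
    [Algebra k B] {ι : Type u} [Preorder ι] [Nonempty ι] [IsDirected ι (· ≤ ·)] (S : ι → Subalgebra k A)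
    (hS : Monotone S) (hcov : ∀ a, ∃ i, a ∈ S i) (h : ∀ i, EGA4.IsNormalRing (S i ⊗[k] B)) :
    EGA4.IsNormalRing (A ⊗[k] B) := by
  let G : ι → Type u := fun i => S i ⊗[k] B
  let f : ∀ i j, i ≤ j → G i →+* G j := fun i j hij =>
    (Algebra.TensorProduct.map (Subalgebra.inclusion (hS hij)) (AlgHom.id k B)).toRingHom
  haveI : DirectedSystem G fun i j h => f i j h :=
    { map_self := fun i x => by
        show Algebra.TensorProduct.map (Subalgebra.inclusion (hS le_rfl)) (AlgHom.id k B) x = x
        rw [show Subalgebra.inclusion (hS (le_refl i)) = AlgHom.id k (S i) from AlgHom.ext fun a => rfl,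
          Algebra.TensorProduct.map_id]
        rfl
      map_map := fun {k' j i} h₁ h₂ x => by
        show Algebra.TensorProduct.map (Subalgebra.inclusion (hS h₂)) (AlgHom.id k B)
          (Algebra.TensorProduct.map (Subalgebra.inclusion (hS h₁)) (AlgHom.id k B) x) =
          Algebra.TensorProduct.map (Subalgebra.inclusion (hS (h₁.trans h₂))) (AlgHom.id k B) x
        induction x using TensorProduct.induction_on with
        | zero => simp
        | tmul a b => rfl
        | add x y hx hy => simp only [map_add, hx, hy] }
  let g : ∀ i, G i →+* A ⊗[k] B := fun i =>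
    (Algebra.TensorProduct.map (S i).val (AlgHom.id k B)).toRingHom
  have hg : ∀ i j (hij : i ≤ j) (x : G i), g j (f i j hij x) = g i x := fun i j hij x => by
    show Algebra.TensorProduct.map (S j).val (AlgHom.id k B)
      (Algebra.TensorProduct.map (Subalgebra.inclusion (hS hij)) (AlgHom.id k B) x) =
      Algebra.TensorProduct.map (S i).val (AlgHom.id k B) x
    induction x using TensorProduct.induction_on with
    | zero => simp
    | tmul a b => rfl
    | add x y hx hy => simp only [map_add, hx, hy]
  let Φ := Ring.DirectLimit.lift G (fun i j h => f i j h) (A ⊗[k] B) g hg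
  have hΦ : Function.Bijective Φ := by
    refine ⟨Ring.DirectLimit.lift_injective _ _ _ fun i => ?_, fun x => ?_⟩
    · exact Module.Flat.rTensor_preserves_injective_linearMap (M := B) (S i).val.toLinearMap
        Subtype.val_injective
    · induction x using TensorProduct.induction_on with
      | zero => exact ⟨0, map_zero _⟩
      | tmul a b =>
        obtain ⟨i, hi⟩ := hcov a
        refine ⟨Ring.DirectLimit.of G (fun i j h => f i j h) i (⟨a, hi⟩ ⊗ₜ b), ?_⟩
        rw [Ring.DirectLimit.lift_of]
        rfl
      | add x y hx hy =>
        obtain ⟨x', rfl⟩ := hx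
        obtain ⟨y', rfl⟩ := hy
        exact ⟨x' + y', map_add _ _ _⟩
  exact isNormalRing_congr (RingEquiv.ofBijective Φ hΦ) (S6280.result G f h)

/-- A field extension is reached by its finitely generated subextensions. -/
theorem isNormalRing_tensor_of_fg {K B : Type u} [Field K] [Algebra k K] [CommRing B] [Algebra k B]
    (h : ∀ K₀ : IntermediateField k K, K₀.FG → EGA4.IsNormalRing (K₀ ⊗[k] B)) :
    EGA4.IsNormalRing (K ⊗[k] B) := by
  classical
  refine isNormalRing_tensor_of_directed k (ι := Finset K)
    (fun s => (IntermediateField.adjoin k (s : Set K)).toSubalgebra)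
    (fun s t hst => IntermediateField.adjoin.mono k _ _ (Finset.coe_subset.2 hst))
    (fun a => ⟨{a}, IntermediateField.subset_adjoin k _ (by simp)⟩)
    fun s => h _ (IntermediateField.fg_adjoin_finset s)

theorem isNormalRing_tensor_of_smooth_frac {B E : Type u} [CommRing B] [Algebra k B] (P : Type u)
    [CommRing P] [Algebra k P] [Algebra.Smooth k P] [Field E] [Algebra k E] [Algebra P E]
    [IsScalarTower k P E] [IsLocalization (nonZeroDivisors P) E] (hB : EGA4.IsNormalRing B) :
    EGA4.IsNormalRing (E ⊗[k] B) := by
  have h1 : EGA4.IsNormalRing (B ⊗[k] P) := DescAlg.SmoothNormal.isNormalRing_of_smooth (A := B) hB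
  letI : Algebra (B ⊗[k] P) (B ⊗[k] E) :=
    (Algebra.TensorProduct.map (AlgHom.id k B) (IsScalarTower.toAlgHom k P E)).toRingHom.toAlgebra
  haveI : IsScalarTower B (B ⊗[k] P) (B ⊗[k] E) :=
    .of_algebraMap_eq fun x => by simp [RingHom.algebraMap_toAlgebra]
  haveI := IsLocalization.tensorProduct_tensorProduct_right k B (nonZeroDivisors P) E
    (by ext; simp [RingHom.algebraMap_toAlgebra])
  exact isNormalRing_comm k (Excellent.NormalRing.isNormalRing_of_isLocalization
    ((nonZeroDivisors P).map (Algebra.TensorProduct.includeRight (R := k) (A := B))) h1)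

theorem isNormalRing_tensor_of_separable {B E K : Type u} [CommRing B] [Algebra k B] [Field E]
    [Algebra k E] [Field K] [Algebra k K] [Algebra E K] [IsScalarTower k E K]
    [Algebra.EssFiniteType k K] [Algebra.IsSeparable E K] (h : EGA4.IsNormalRing (E ⊗[k] B)) :
    EGA4.IsNormalRing (K ⊗[k] B) := by
  haveI : Algebra.EssFiniteType E K := Algebra.EssFiniteType.of_comp k E K
  haveI : Algebra.FormallyEtale E K := Algebra.FormallyEtale.of_isSeparable E K
  haveI : Module.Finite E K := Algebra.FormallyUnramified.finite_of_free E K
  haveI : Algebra.Smooth E K :=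
    ⟨inferInstance, (Algebra.FinitePresentation.of_finiteType).1 inferInstance⟩
  have h4 : EGA4.IsNormalRing ((E ⊗[k] B) ⊗[E] K) :=
    DescAlg.SmoothNormal.isNormalRing_of_smooth (A := E ⊗[k] B) h
  exact isNormalRing_congr
    ((Algebra.TensorProduct.comm E (E ⊗[k] B) K).toRingEquiv.trans
      (Algebra.TensorProduct.cancelBaseChange k E E K B).toRingEquiv) h4

/-- The tensor product of a separably generated extension with a normal algebra is normal. -/
theorem isNormalRing_tensor_of_separablyGenerated {K B : Type u} [Field K] [Algebra k K]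
    [Algebra.EssFiniteType k K] [CommRing B] [Algebra k B] (hB : EGA4.IsNormalRing B)
    (hK : ∃ s : Finset K, IsTranscendenceBasis k ((↑) : s → K) ∧
      Algebra.IsSeparable (IntermediateField.adjoin k (s : Set K)) K) :
    EGA4.IsNormalRing (K ⊗[k] B) := by
  obtain ⟨s, hs, hsep⟩ := hK
  let P := MvPolynomial s k
  let E := IntermediateField.adjoin k (Set.range ((↑) : s → K))
  have hE : IntermediateField.adjoin k (s : Set K) = E := by
    show _ = IntermediateField.adjoin k (Set.range ((↑) : s → K))
    rw [Subtype.range_coe]
  haveI : Algebra.IsSeparable E K := hE ▸ hsep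
  let e := hs.1.aevalEquivField
  letI : Algebra P E := (e.toAlgHom.comp (IsScalarTower.toAlgHom k P (FractionRing P))).toRingHom.toAlgebra
  haveI : IsScalarTower k P E := IsScalarTower.of_algebraMap_eq fun r => by
    show algebraMap k E r = e (algebraMap P (FractionRing P) (algebraMap k P r))
    rw [← IsScalarTower.algebraMap_apply, AlgEquiv.commutes]
  haveI : IsLocalization (nonZeroDivisors P) E :=
    IsLocalization.isLocalization_of_algEquiv (nonZeroDivisors P)
      ({ e.toRingEquiv with commutes' := fun _ => rfl } : FractionRing P ≃ₐ[P] E)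
  haveI : Algebra.Smooth k P := {}
  exact isNormalRing_tensor_of_separable k (E := E) (K := K) (isNormalRing_tensor_of_smooth_frac k P hB)

/-- The tensor product of a separable field extension with a normal algebra is normal. -/
theorem isNormalRing_tensor_of_geometricallyReduced {K B : Type u} [Field K] [Algebra k K]
    [Algebra.IsGeometricallyReduced k K] [CommRing B] [Algebra k B] (hB : EGA4.IsNormalRing B) :
    EGA4.IsNormalRing (K ⊗[k] B) := by
  refine isNormalRing_tensor_of_fg k fun K₀ hK₀ => ?_
  haveI : Algebra.EssFiniteType k K₀ := IntermediateField.essFiniteType_iff.2 hK₀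
  haveI : Algebra.IsGeometricallyReduced k K₀ :=
    Algebra.IsGeometricallyReduced.of_injective K₀.val Subtype.val_injective
  refine isNormalRing_tensor_of_separablyGenerated k hB ?_
  obtain _ | ⟨p, hp, hpk⟩ := CharP.exists' k
  · exact exists_isTranscendenceBasis_and_isSeparable_of_perfectField k K₀
  haveI : CharP K₀ p := charP_of_injective_algebraMap (algebraMap k K₀).injective p
  refine exists_isTranscendenceBasis_and_isSeparable_of_linearIndepOn_pow_of_essFiniteType p hp.out
    fun t ht => ?_
  exact PBasis.MacLane.isMacLane (p := p) (k := k) (K := K₀) _ _ ht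

/-- Over a perfect field every extension of a normal algebra is normal. -/
theorem isNormalRing_tensor_of_perfectField [PerfectField k] {K B : Type u} [Field K] [Algebra k K]
    [CommRing B] [Algebra k B] (hB : EGA4.IsNormalRing B) : EGA4.IsNormalRing (K ⊗[k] B) := by
  refine isNormalRing_tensor_of_fg k fun K₀ hK₀ => ?_
  haveI : Algebra.EssFiniteType k K₀ := IntermediateField.essFiniteType_iff.2 hK₀
  exact isNormalRing_tensor_of_separablyGenerated k hB
    (exists_isTranscendenceBasis_and_isSeparable_of_perfectField k K₀)

/-- Normality after every finite purely inseparable extension. -/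
def IsPINormal (A : Type u) [CommRing A] [Algebra k A] : Prop :=
  ∀ (k' : Type u) [Field k'] [Algebra k k'], Module.Finite k k' → IsPurelyInseparable k k' →
    EGA4.IsNormalRing (k' ⊗[k] A)

variable {k}

theorem IsPINormal.of_isGeomNormal {A : Type u} [CommRing A] [Algebra k A] (h : EGA4.IsGeomNormal k A) :
    IsPINormal k A :=
  fun k' _ _ hk _ => h k' hk

/-- Normality descends along faithfully flat maps. -/
theorem isNormalRing_of_faithfullyFlat {R S : Type u} [CommRing R] [CommRing S] [Algebra R S]
    [Module.FaithfullyFlat R S] (hS : EGA4.IsNormalRing S) : EGA4.IsNormalRing R := fun p _ => by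
  obtain ⟨⟨q, hq⟩, hqp⟩ :=
    PrimeSpectrum.comap_surjective_of_faithfullyFlat (A := R) (B := S) ⟨p, inferInstance⟩
  obtain rfl : q.comap (algebraMap R S) = p := congrArg PrimeSpectrum.asIdeal hqp
  obtain ⟨_, _⟩ := hS q
  letI : Algebra (Localization.AtPrime (q.comap (algebraMap R S))) (Localization.AtPrime q) :=
    (Localization.localRingHom _ q (algebraMap R S) rfl).toAlgebra
  haveI : IsScalarTower R (Localization.AtPrime (q.comap (algebraMap R S))) (Localization.AtPrime q) :=
    IsScalarTower.of_algebraMap_eq fun a => by
      rw [IsScalarTower.algebraMap_apply R S (Localization.AtPrime q)]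
      exact (Localization.localRingHom_to_map _ q (algebraMap R S) rfl a).symm
  haveI : Module.Flat R (Localization.AtPrime q) :=
    haveI : Module.Flat S (Localization.AtPrime q) := IsLocalization.flat _ q.primeCompl
    Module.Flat.trans R S _
  haveI : Module.Flat (Localization.AtPrime (q.comap (algebraMap R S))) (Localization.AtPrime q) :=
    (Module.flat_iff_of_isLocalization (Localization.AtPrime (q.comap (algebraMap R S)))
      (q.comap (algebraMap R S)).primeCompl _).2 ‹_›
  haveI : IsLocalHom (algebraMap (Localization.AtPrime (q.comap (algebraMap R S))) (Localization.AtPrime q)) :=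
    Localization.isLocalHom_localRingHom _ q (algebraMap R S) rfl
  haveI : Module.FaithfullyFlat (Localization.AtPrime (q.comap (algebraMap R S)))
      (Localization.AtPrime q) := Module.FaithfullyFlat.of_flat_of_isLocalHom
  exact Henselian.Normal.isDomain_and_isIntegrallyClosed_of_faithfullyFlat _ (Localization.AtPrime q)

/-- Normality descends along field extensions. -/
theorem isNormalRing_tensor_descend {A : Type u} [CommRing A] [Algebra k A] (K L : Type u) [Field K]
    [Field L] [Algebra k K] [Algebra k L] [Algebra K L] [IsScalarTower k K L]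
    (h : EGA4.IsNormalRing (L ⊗[k] A)) : EGA4.IsNormalRing (K ⊗[k] A) := by
  have h' : EGA4.IsNormalRing ((K ⊗[k] A) ⊗[K] L) :=
    isNormalRing_congr ((Algebra.TensorProduct.cancelBaseChange k K K L A).symm.toRingEquiv.trans
      (Algebra.TensorProduct.comm K L (K ⊗[k] A)).toRingEquiv) h
  exact isNormalRing_of_faithfullyFlat (R := K ⊗[k] A) h'

theorem isNormalRing_tensor_of_tower {A : Type u} [CommRing A] [Algebra k A] (P L : Type u) [Field P]
    [Field L] [Algebra k P] [Algebra k L] [Algebra P L] [IsScalarTower k P L] [PerfectField P]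
    (hP : EGA4.IsNormalRing (P ⊗[k] A)) : EGA4.IsNormalRing (L ⊗[k] A) :=
  isNormalRing_congr (Algebra.TensorProduct.cancelBaseChange k P P L A).toRingEquiv
    (isNormalRing_tensor_of_perfectField P (K := L) hP)

/-- Geometric normality extends to all field extensions. -/
theorem IsPINormal.isNormalRing_tensor {A : Type u} [CommRing A] [Algebra k A] (h : IsPINormal k A)
    (K : Type u) [Field K] [Algebra k K] : EGA4.IsNormalRing (K ⊗[k] A) := by
  classical
  let P := perfectClosure k (AlgebraicClosure k)
  let L := AlgebraicClosure K
  let i : P →ₐ[k] L := IsAlgClosed.lift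
  letI : Algebra P L := i.toRingHom.toAlgebra
  haveI : IsScalarTower k P L := IsScalarTower.of_algebraMap_eq fun r => (i.commutes r).symm
  have hP : EGA4.IsNormalRing (P ⊗[k] A) := by
    refine isNormalRing_tensor_of_fg k fun K₀ hK₀ => ?_
    haveI : IsPurelyInseparable k P := perfectClosure.isPurelyInseparable k (AlgebraicClosure k)
    haveI : IsPurelyInseparable k K₀ := inferInstance
    haveI : Module.Finite k K₀ := by
      obtain ⟨t, rfl⟩ := hK₀
      exact IntermediateField.finiteDimensional_adjoin fun x _ =>
        (Algebra.IsAlgebraic.isAlgebraic x).isIntegral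
    exact h K₀ inferInstance inferInstance
  exact isNormalRing_tensor_descend K L (isNormalRing_tensor_of_tower P L hP)

end Groth.Agent.Lib.NormalTensor.Field
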