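import Groth.Prelude.Def_EGA4b
import Groth.Agent.Lib.Excellent.NormalRing
import Mathlib.RingTheory.Ideal.IdempotentFG
import Mathlib.RingTheory.LocalProperties.Reduced
import Mathlib.RingTheory.Localization.LocalizationLocalization
import Mathlib.RingTheory.Polynomial.ScaleRoots
import Mathlib.RingTheory.Localization.Integral

/-!
# Normal rings: integrally closed subrings of locally Noetherian normal rings
-/

set_option linter.style.haveILetI false
set_option autoImplicit false

universe u

open Polynomial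

namespace Groth.Agent.Lib.NormalTensor.Basic

theorem isNormalRing_congr {R S : Type u} [CommRing R] [CommRing S] (e : R ≃+* S)
    (h : EGA4.IsNormalRing R) : EGA4.IsNormalRing S :=
  Excellent.Transport.isoInvariant_isNormalRing R S e h

theorem isReduced_of_isNormalRing {R : Type u} [CommRing R] (h : EGA4.IsNormalRing R) : IsReduced R :=
  isReduced_ofLocalizationMaximal R fun J _ =>
    haveI := (h J).1
    inferInstance

/-- Normality may be checked on a cover by localizations. -/
theorem isNormalRing_of_forall_localization {R : Type u} [CommRing R]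
    (h : ∀ (P : Ideal R) [P.IsPrime], ∃ (R' : Type u) (_ : CommRing R') (_ : Algebra R R')
      (M : Submonoid R), IsLocalization M R' ∧ M ≤ P.primeCompl ∧ EGA4.IsNormalRing R') :
    EGA4.IsNormalRing R := by
  intro P _
  obtain ⟨R', _, _, M, hM, hle, hR'⟩ := h P
  let P' := P.map (algebraMap R R')
  have hdisj : Disjoint (M : Set R) P := Set.disjoint_left.2 fun x hx hxP => hle hx hxP
  haveI : P'.IsPrime := IsLocalization.isPrime_of_isPrime_disjoint M R' P ‹_› hdisj
  have hP' : P'.under R = P := IsLocalization.under_map_of_isPrime_disjoint M R' ‹_› hdisj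
  haveI := IsLocalization.isLocalization_isLocalization_atPrime_isLocalization M
    (Localization.AtPrime P') P'
  have hP'' : P'.comap (algebraMap R R') = P := hP'
  haveI : IsLocalization P.primeCompl (Localization.AtPrime P') := by
    have h' : IsLocalization (P'.comap (algebraMap R R')).primeCompl (Localization.AtPrime P') :=
      inferInstance
    convert h' using 2
    exact hP''.symm
  exact Excellent.NormalRing.isoInvariant_domainIntClosed _ _
    (IsLocalization.algEquiv P.primeCompl (Localization.AtPrime P') (Localization.AtPrime P)).toRingEquiv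
    (hR' P')

/-- In a normal ring, annihilators are idempotent ideals. -/
theorem isIdempotentElem_annihilator {T : Type u} [CommRing T] (hT : EGA4.IsNormalRing T) (x : T) :
    IsIdempotentElem (Ideal.span {x} : Ideal T).annihilator := by
  set J := (Ideal.span {x} : Ideal T).annihilator
  refine le_antisymm Ideal.mul_le_left fun y hy => ?_
  have hyx : y * x = 0 := by
    simpa [J, Submodule.mem_annihilator_span_singleton] using hy
  let C : Ideal T :=
    { carrier := {r | r * y ∈ J * J}
      add_mem' := fun {a b} ha hb => by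
        show (a + b) * y ∈ J * J
        rw [add_mul]; exact add_mem ha hb
      zero_mem' := by show (0 : T) * y ∈ J * J; simp
      smul_mem' := fun c a ha => by
        show c * a * y ∈ J * J
        rw [mul_assoc]; exact Ideal.mul_mem_left _ c ha }
  suffices hC : C = ⊤ by
    have h1 : (1 : T) * y ∈ J * J := (Ideal.eq_top_iff_one C).1 hC
    rwa [one_mul] at h1
  by_contra hne
  obtain ⟨m, hm, hle⟩ := C.exists_le_maximal hne
  haveI := hm.isPrime
  haveI := (hT m).1
  have h0 : algebraMap T (Localization.AtPrime m) y * algebraMap T (Localization.AtPrime m) x = 0 := by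
    rw [← map_mul, hyx, map_zero]
  rcases mul_eq_zero.1 h0 with h | h
  · obtain ⟨⟨s, hs⟩, hsy⟩ := (IsLocalization.map_eq_zero_iff m.primeCompl _ _).1 h
    exact hs (hle (show s * y ∈ J * J by rw [hsy]; exact zero_mem _))
  · obtain ⟨⟨s, hs⟩, hsx⟩ := (IsLocalization.map_eq_zero_iff m.primeCompl _ _).1 h
    refine hs (hle (show s * y ∈ J * J from Ideal.mul_mem_mul ?_ hy))
    simpa [J, Submodule.mem_annihilator_span_singleton] using hsx

/-- In a Noetherian normal ring, the annihilator of an element is generated by an idempotent. -/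
theorem exists_idempotent {T : Type u} [CommRing T] [IsNoetherianRing T]
    (hT : EGA4.IsNormalRing T) (x : T) :
    ∃ e : T, IsIdempotentElem e ∧ e * x = 0 ∧ ∀ y, y * x = 0 → y * e = y := by
  obtain ⟨e, he, hJ⟩ := (Ideal.isIdempotentElem_iff_of_fg _ (IsNoetherian.noetherian _)).1
    (isIdempotentElem_annihilator hT x)
  refine ⟨e, he, ?_, fun y hy => ?_⟩
  · have h : e ∈ (Ideal.span {x} : Ideal T).annihilator := hJ ▸ Submodule.mem_span_singleton_self e
    simpa [Submodule.mem_annihilator_span_singleton] using h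
  · have h : y ∈ Submodule.span T ({e} : Set T) := hJ ▸ (by
      simpa [Submodule.mem_annihilator_span_singleton] using hy)
    obtain ⟨c, rfl⟩ := Submodule.mem_span_singleton.1 h
    show c * e * e = c * e
    rw [mul_assoc, he.eq]

/-- In a normal ring a fraction satisfying an integral equation is an element. -/
theorem dvd_of_eval_scaleRoots {T : Type u} [CommRing T] (hT : EGA4.IsNormalRing T) {a b : T}
    (hb : b ∈ nonZeroDivisors T) {p : T[X]} (hp : p.Monic) (h : (p.scaleRoots b).eval a = 0) :
    b ∣ a := by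
  let D : Ideal T :=
    { carrier := {r | b ∣ r * a}
      add_mem' := fun {r s} hr hs => by
        show b ∣ (r + s) * a
        rw [add_mul]; exact dvd_add hr hs
      zero_mem' := by show b ∣ (0 : T) * a; simp
      smul_mem' := fun c r hr => by
        show b ∣ c * r * a
        rw [mul_assoc]; exact hr.mul_left c }
  suffices hD : D = ⊤ by
    have h1 : b ∣ (1 : T) * a := (Ideal.eq_top_iff_one D).1 hD
    rwa [one_mul] at h1
  by_contra hne
  obtain ⟨m, hm, hle⟩ := D.exists_le_maximal hne
  haveI := hm.isPrime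
  obtain ⟨_, _⟩ := hT m
  let L := Localization.AtPrime m
  let K := FractionRing L
  have hb0 : algebraMap T L b ≠ 0 := fun h0 => by
    obtain ⟨⟨s, hs⟩, hsb⟩ := (IsLocalization.map_eq_zero_iff m.primeCompl _ _).1 h0
    have h1 : s = 0 := (mul_right_mem_nonZeroDivisors_eq_zero_iff hb).1 hsb
    exact hs (h1 ▸ m.zero_mem)
  let φ : T →+* K := (algebraMap L K).comp (algebraMap T L)
  have hbK : φ b ≠ 0 := (map_ne_zero_iff _ (IsFractionRing.injective L K)).2 hb0
  have h1 : Polynomial.eval₂ φ (φ a) (p.scaleRoots b) = 0 := by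
    rw [Polynomial.eval₂_at_apply, h, map_zero]
  rw [show φ a = φ b * (φ a / φ b) from (mul_div_cancel₀ _ hbK).symm, scaleRoots_eval₂_mul] at h1
  have h2 : IsIntegral L (φ a / φ b) := by
    refine ⟨p.map (algebraMap T L), hp.map _, ?_⟩
    rw [Polynomial.eval₂_map]
    exact (mul_eq_zero.1 h1).resolve_left (pow_ne_zero _ hbK)
  obtain ⟨w, hw⟩ := (isIntegrallyClosed_iff K).1 inferInstance h2
  obtain ⟨c, s, rfl⟩ := IsLocalization.exists_mk'_eq m.primeCompl w
  have h3 : algebraMap T L (a * s) = algebraMap T L (b * c) := by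
    apply IsFractionRing.injective L K
    rw [eq_div_iff hbK] at hw
    change φ (a * s) = φ (b * c)
    rw [map_mul, ← hw, map_mul]
    change algebraMap L K (IsLocalization.mk' L c s) * algebraMap L K (algebraMap T L b) *
      algebraMap L K (algebraMap T L s) = algebraMap L K (algebraMap T L b) * algebraMap L K (algebraMap T L c)
    rw [← IsLocalization.mk'_spec L c s, map_mul]
    ring
  obtain ⟨u, hu⟩ := IsLocalization.exists_of_eq (M := m.primeCompl) h3
  refine (m.primeCompl.mul_mem u.2 s.2) (hle ?_)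
  show b ∣ (u : T) * s * a
  exact ⟨u * c, by rw [mul_assoc, mul_comm (s : T) a, hu]; ring⟩

/-- A normal ring is integrally closed in its localizations at non-zero-divisors. -/
theorem exists_preimage_of_isIntegral {R S : Type u} [CommRing R] [CommRing S] [Algebra R S]
    (hR : EGA4.IsNormalRing R) (M : Submonoid R) [IsLocalization M S] (hM : M ≤ nonZeroDivisors R)
    {x : S} (hx : IsIntegral R x) : ∃ r, algebraMap R S r = x := by
  obtain ⟨a, m, rfl⟩ := IsLocalization.exists_mk'_eq M x
  obtain ⟨p, hp, hpx⟩ := hx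
  have h : (p.scaleRoots (m : R)).eval a = 0 := by
    apply IsLocalization.injective S hM
    rw [map_zero, ← Polynomial.eval₂_at_apply, ← IsLocalization.mk'_spec' S a m, scaleRoots_eval₂_mul,
      hpx, mul_zero]
  obtain ⟨r, hr⟩ := dvd_of_eval_scaleRoots hR (hM m.2) hp h
  exact ⟨r, (IsLocalization.eq_mk'_iff_mul_eq.2 (by rw [← map_mul, mul_comm, ← hr]))⟩

/-- An integrally closed subring of a ring which is locally Noetherian and normal is normal. -/
theorem isNormalRing_of_isIntegrallyClosedIn {R T : Type u} [CommRing R] [CommRing T] (i : R →+* T)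
    (hi : Function.Injective i)
    (hint : ∀ z : T, i.IsIntegralElem z → ∃ r, i r = z)
    (hloc : ∀ s : Finset R, ∃ (T₀ : Type u) (_ : CommRing T₀) (g : T₀ →+* T),
      IsNoetherianRing T₀ ∧ EGA4.IsNormalRing T₀ ∧ Function.Injective g ∧ ∀ r ∈ s, i r ∈ g.range) :
    EGA4.IsNormalRing R := by
  classical
  intro P _
  let L := Localization.AtPrime P
  let j := algebraMap R L
  haveI : Nontrivial R := RingHom.domain_nontrivial j
  have key : ∀ (T₀ : Type u) [CommRing T₀] (g : T₀ →+* T) (e : T₀), IsIdempotentElem e →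
      ∃ r : R, i r = g e ∧ IsIdempotentElem r := by
    intro T₀ _ g e he
    have hge : g e * g e = g e := by rw [← map_mul, he.eq]
    obtain ⟨r, hr⟩ := hint (g e) ⟨X ^ 2 - X, (monic_X_pow 2).sub_of_left (by
      rw [degree_X_pow, degree_X]; decide), by simp [sq, hge]⟩
    exact ⟨r, hr, hi (by rw [map_mul, hr, hge])⟩
  have hidem : ∀ r : R, IsIdempotentElem r → j r = 0 ∨ j r = 1 := fun r hr =>
    by_cases (fun h : r ∈ P => Or.inl ((IsLocalization.map_eq_zero_iff P.primeCompl L r).2
        ⟨⟨1 - r, fun h' => ‹P.IsPrime›.ne_top ((Ideal.eq_top_iff_one P).2 (by simpa using add_mem h' h))⟩,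
          by rw [sub_mul, one_mul, hr.eq, sub_self]⟩))
      fun h : r ∉ P => Or.inr ((IsIdempotentElem.iff_eq_one_of_isUnit
        (IsLocalization.map_units L (⟨r, h⟩ : P.primeCompl))).1 (hr.map j))
  haveI hdom : IsDomain L := by
    haveI : NoZeroDivisors L := by
      constructor
      intro x y hxy
      obtain ⟨a, s, rfl⟩ := IsLocalization.exists_mk'_eq P.primeCompl x
      obtain ⟨b, t, rfl⟩ := IsLocalization.exists_mk'_eq P.primeCompl y
      rw [← IsLocalization.mk'_mul, IsLocalization.mk'_eq_zero_iff] at hxy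
      obtain ⟨⟨u, hu⟩, huab⟩ := hxy
      obtain ⟨T₀, _, g, _, hT₀, hg, hcov⟩ := hloc {a, u * b}
      obtain ⟨a', ha'⟩ := hcov a (by simp)
      obtain ⟨b', hb'⟩ := hcov (u * b) (by simp)
      obtain ⟨e, he, hea, hey⟩ := exists_idempotent hT₀ a'
      have hbe : b' * e = b' := hey b' (hg (by
        rw [map_mul, map_zero, ha', hb', ← map_mul, show u * b * a = u * (a * b) by ring, huab, map_zero]))
      obtain ⟨r, hr, hr2⟩ := key T₀ g e he
      have h1 : r * a = 0 := hi (by rw [map_mul, map_zero, hr, ← ha', ← map_mul, hea, map_zero])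
      have h2 : u * b * r = u * b := hi (by rw [map_mul, hr, ← hb', ← map_mul, hbe])
      rcases hidem r hr2 with h | h
      · right
        have h3 : j (u * b) = 0 := by rw [← h2, map_mul, h, mul_zero]
        rw [map_mul] at h3
        rw [IsLocalization.mk'_eq_mul_mk'_one,
          (IsLocalization.map_units L (⟨u, hu⟩ : P.primeCompl)).mul_right_eq_zero.1 h3, zero_mul]
      · left
        have h3 : j (r * a) = 0 := by rw [h1, map_zero]
        rw [map_mul, h, one_mul] at h3
        rw [IsLocalization.mk'_eq_mul_mk'_one, h3, zero_mul]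
    exact NoZeroDivisors.to_isDomain _
  refine ⟨hdom, (isIntegrallyClosed_iff (FractionRing L)).mpr fun {x} hx => ?_⟩
  let K := FractionRing L
  let φ : R →+* K := (algebraMap L K).comp j
  obtain ⟨⟨m, hm⟩, q, hq, hqx⟩ := hx.exists_multiple_integral_of_isLocalization P.primeCompl
  have hqx' : Polynomial.eval₂ φ (φ m * x) q = 0 := by
    rw [← hqx, IsScalarTower.algebraMap_eq R L K, Submonoid.smul_def, Algebra.smul_def,
      IsScalarTower.algebraMap_apply R L K]
    rfl
  obtain ⟨a, b, hb, hab⟩ : ∃ a b : R, φ b ≠ 0 ∧ x = φ a / φ b := by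
    obtain ⟨A, B, hB, rfl⟩ := IsFractionRing.div_surjective (A := L) x
    obtain ⟨a, s, rfl⟩ := IsLocalization.exists_mk'_eq P.primeCompl A
    obtain ⟨b, t, rfl⟩ := IsLocalization.exists_mk'_eq P.primeCompl B
    have hB' : algebraMap L K (IsLocalization.mk' L b t) ≠ 0 :=
      (map_ne_zero_iff _ (IsFractionRing.injective L K)).2 (nonZeroDivisors.ne_zero hB)
    have hsv : ∀ v : P.primeCompl, φ v ≠ 0 := fun v =>
      (map_ne_zero_iff _ (IsFractionRing.injective L K)).2 (IsLocalization.map_units L v).ne_zero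
    have ea : algebraMap L K (IsLocalization.mk' L a s) * φ s = φ a :=
      (map_mul _ _ _).symm.trans (congrArg _ (IsLocalization.mk'_spec L a s))
    have eb : algebraMap L K (IsLocalization.mk' L b t) * φ t = φ b :=
      (map_mul _ _ _).symm.trans (congrArg _ (IsLocalization.mk'_spec L b t))
    refine ⟨a * t, b * s, ?_, ?_⟩
    · rw [map_mul, ← eb]
      exact mul_ne_zero (mul_ne_zero hB' (hsv t)) (hsv s)
    · rw [map_mul, map_mul, ← ea, ← eb]
      rw [div_eq_div_iff hB' (mul_ne_zero (mul_ne_zero hB' (hsv t)) (hsv s))]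
      ring
  let d := φ m * x
  have hd : φ b * d = φ (m * a) := by
    show φ b * (φ m * x) = _
    rw [hab, map_mul, mul_left_comm, mul_div_cancel₀ _ hb]
  have h1 : φ ((q.scaleRoots b).eval (m * a)) = 0 := by
    rw [← Polynomial.eval₂_at_apply, ← hd, scaleRoots_eval₂_mul, hqx', mul_zero]
  have h1' : j ((q.scaleRoots b).eval (m * a)) = 0 := IsFractionRing.injective L K (by
    rw [map_zero]; exact h1)
  obtain ⟨⟨u, hu⟩, hu0⟩ := (IsLocalization.map_eq_zero_iff P.primeCompl L _).1 h1'
  have hn : q.natDegree ≠ 0 := fun h0 => by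
    rw [(Polynomial.Monic.natDegree_eq_zero hq).1 h0] at hu0
    simp [scaleRoots_one] at hu0
    exact hu (hu0 ▸ P.zero_mem)
  let q' := q.scaleRoots u
  have hq' : q'.Monic := (monic_scaleRoots_iff u).2 hq
  have h2 : (q'.scaleRoots b).eval (u * (m * a)) = 0 := by
    rw [show q'.scaleRoots b = (q.scaleRoots b).scaleRoots u by
      simp only [q', ← scaleRoots_mul, mul_comm]]
    rw [← eval₂_id, show u * (m * a) = RingHom.id R u * (m * a) from rfl, scaleRoots_eval₂_mul,
      natDegree_scaleRoots, eval₂_id, RingHom.id_apply]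
    obtain ⟨k, hk⟩ := Nat.exists_eq_succ_of_ne_zero hn
    rw [hk, pow_succ, mul_assoc, hu0, mul_zero]
  haveI : Nontrivial R := RingHom.domain_nontrivial j
  haveI : Nontrivial T := hi.nontrivial
  obtain ⟨T₀, _, g, _, hT₀, hg, hcov⟩ := hloc (insert (u * (m * a)) (insert b (q'.coeffs ∪ {1})))
  obtain ⟨a₀, ha₀⟩ := hcov (u * (m * a)) (by simp)
  obtain ⟨b₀, hb₀⟩ := hcov b (by simp)
  have hlift : q'.map i ∈ Polynomial.lifts g := by
    rw [Polynomial.lifts_iff_coeff_lifts]
    intro k
    rw [coeff_map]
    by_cases hk : q'.coeff k = 0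
    · exact ⟨0, by rw [hk, map_zero, map_zero]⟩
    · obtain ⟨w, hw⟩ := hcov (q'.coeff k) (by simp [coeff_mem_coeffs hk])
      exact ⟨w, hw⟩
  obtain ⟨q₀, hq₀map, -, hq₀⟩ := lifts_and_degree_eq_and_monic hlift (hq'.map i)
  have h3 : (q₀.scaleRoots b₀).eval a₀ = 0 := by
    apply hg
    rw [map_zero, ← Polynomial.eval₂_at_apply, ← Polynomial.eval_map,
      map_scaleRoots _ _ _ (by rw [hq₀.leadingCoeff, map_one]; exact one_ne_zero), hq₀map, hb₀,
      ha₀, ← map_scaleRoots _ _ _ (by rw [hq'.leadingCoeff, map_one]; exact one_ne_zero),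
      Polynomial.eval_map, Polynomial.eval₂_at_apply, h2, map_zero]
  -- move the denominator to a non-zero-divisor
  obtain ⟨e, he, heb, hey⟩ := exists_idempotent hT₀ b₀
  obtain ⟨r, hr, hr2⟩ := key T₀ g e he
  have hrb : r * b = 0 := hi (by rw [map_mul, map_zero, hr, ← hb₀, ← map_mul, heb, map_zero])
  have hφr : φ r = 0 := by
    have h : φ r * φ b = 0 := by rw [← map_mul, hrb, map_zero]
    exact (mul_eq_zero.1 h).resolve_right hb
  have hb₁ : b₀ + e ∈ nonZeroDivisors T₀ := mem_nonZeroDivisors_iff_right.2 fun y hy => by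
    have hye : y * e = 0 := by
      calc y * e = y * (b₀ + e) * e := by linear_combination -y * heb - y * he.eq
        _ = 0 := by rw [hy, zero_mul]
    rw [← hey y (by linear_combination hy - hye), hye]
  have h5 : ((Polynomial.X * q₀).scaleRoots (b₀ + e)).eval (a₀ * (1 - e)) = 0 := by
    rcases subsingleton_or_nontrivial T₀ with hT | hT
    · exact Subsingleton.elim _ _
    have hbar : ((q₀.scaleRoots (b₀ + e)).eval (a₀ * (1 - e))) ∈ Ideal.span {e} := by
      rcases subsingleton_or_nontrivial (T₀ ⧸ Ideal.span {e}) with hQ | hQ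
      · exact Ideal.Quotient.eq_zero_iff_mem.1 (Subsingleton.elim _ _)
      let π := Ideal.Quotient.mk (Ideal.span {e})
      have hπe : π e = 0 := Ideal.Quotient.eq_zero_iff_mem.2 (Ideal.mem_span_singleton_self e)
      have hlead : π q₀.leadingCoeff ≠ 0 := by rw [hq₀.leadingCoeff, map_one]; exact one_ne_zero
      rw [← Ideal.Quotient.eq_zero_iff_mem]
      change π _ = 0
      rw [← Polynomial.eval₂_at_apply, ← Polynomial.eval_map, map_scaleRoots _ _ _ hlead, map_mul,
        map_sub, map_add, map_one, hπe, add_zero, sub_zero, mul_one, ← map_scaleRoots _ _ _ hlead,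
        Polynomial.eval_map, Polynomial.eval₂_at_apply, h3, map_zero]
    obtain ⟨c, hc⟩ := Ideal.mem_span_singleton'.1 hbar
    rw [mul_scaleRoots' (p := Polynomial.X) (q := q₀) _ (by rw [monic_X.leadingCoeff, hq₀.leadingCoeff, one_mul]; exact one_ne_zero),
      eval_mul, ← hc]
    have hX : (Polynomial.X : T₀[X]).scaleRoots (b₀ + e) = Polynomial.X := by
      ext k
      rw [coeff_scaleRoots, natDegree_X, coeff_X]
      split_ifs with h
      · subst h; simp
      · simp
    rw [hX, eval_X]
    linear_combination (-(a₀ * c)) * he.eq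
  obtain ⟨z, hz⟩ := dvd_of_eval_scaleRoots hT₀ hb₁ (monic_X.mul hq₀) h5
  have h4 : (Polynomial.X * q₀).eval z = 0 := by
    have h := scaleRoots_eval₂_mul (p := Polynomial.X * q₀) (RingHom.id T₀) z (b₀ + e)
    rw [eval₂_id, eval₂_id, RingHom.id_apply, ← hz, h5] at h
    exact (mul_right_mem_nonZeroDivisors_eq_zero_iff (pow_mem hb₁ _)).1 (by rw [mul_comm]; exact h.symm)
  obtain ⟨z', hz'⟩ := hint (g z) ⟨Polynomial.X * q', monic_X.mul hq', by
    rw [← Polynomial.eval_map, Polynomial.map_mul, map_X, ← hq₀map, ← map_X g, ← Polynomial.map_mul,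
      Polynomial.eval_map, Polynomial.eval₂_at_apply, h4, map_zero]⟩
  have hbz : (b + r) * z' = u * (m * a) * (1 - r) := hi (by
    have h := congrArg g hz
    rw [map_mul, map_mul, map_sub, map_one, map_add, ha₀, hb₀, ← hr, ← hz'] at h
    simp only [map_mul, map_add, map_sub, map_one] at h ⊢
    exact h.symm)
  refine ⟨IsLocalization.mk' L z' (⟨u, hu⟩ * ⟨m, hm⟩ : P.primeCompl), ?_⟩
  have hum : φ (u * m) ≠ 0 := (map_ne_zero_iff _ (IsFractionRing.injective L K)).2
    (IsLocalization.map_units L (⟨u, hu⟩ * ⟨m, hm⟩ : P.primeCompl)).ne_zero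
  have ez : algebraMap L K (IsLocalization.mk' L z' (⟨u, hu⟩ * ⟨m, hm⟩ : P.primeCompl)) * φ (u * m) = φ z' :=
    (map_mul _ _ _).symm.trans (congrArg _ (IsLocalization.mk'_spec L z' _))
  refine mul_right_cancel₀ hum (ez.trans ?_)
  have h6 := congrArg φ hbz
  rw [map_mul, map_add, hφr, add_zero, map_mul φ _ (1 - r), map_sub, map_one, hφr, sub_zero, mul_one] at h6
  rw [hab, div_mul_eq_mul_div, eq_div_iff hb, mul_comm (φ z'), ← map_mul, map_mul φ b z', h6]
  simp only [map_mul]
  ring

end Groth.Agent.Lib.NormalTensor.Basic
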