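import Groth.Agent.Lib.NormalTensor.BaseChange
import Groth.Agent.Lib.Henselian.Unibranch
import Groth.Agent.H52.FBase.GeomPt
import Mathlib.RingTheory.AdicCompletion.AsTensorProduct
import Mathlib.RingTheory.AdicCompletion.LocalRing

/-!
# Normal formal fibres of henselian local rings
-/

set_option linter.style.haveILetI false
set_option autoImplicit false

universe u

open TensorProduct

namespace Groth.Agent.Lib.NormalTensor.Formal

open Basic

theorem isDomain_of_isNormalRing_local {R : Type u} [CommRing R] [IsLocalRing R] (h : EGA4.IsNormalRing R) :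
    IsDomain R :=
  haveI := (h (IsLocalRing.maximalIdeal R)).1
  Function.Injective.isDomain (algebraMap R (Localization.AtPrime (IsLocalRing.maximalIdeal R)))
    (IsLocalization.atUnits R (IsLocalRing.maximalIdeal R).primeCompl
      fun _ hx => (IsLocalRing.notMem_maximalIdeal).1 hx).injective

theorem isNormalHom_cpl {A : Type u} [CommRing A] [IsNoetherianRing A] [IsLocalRing A]
    (h : EGA4.HasGeomNormalFormalFibres A) : EGA4.IsNormalHom A (EGA4.Cpl A) :=
  ⟨inferInstance, h⟩

/-- Tensoring a local integral algebra with a local algebra with trivial residue extension is local. -/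
theorem isLocalRing_tensor {A S R : Type u} [CommRing A] [IsLocalRing A] [CommRing S] [IsLocalRing S]
    [Algebra A S] [IsLocalHom (algebraMap A S)]
    (hres : ∀ s : S, ∃ a, s - algebraMap A S a ∈ IsLocalRing.maximalIdeal S)
    [CommRing R] [IsLocalRing R] [Algebra A R] [Algebra.IsIntegral A R] [Nontrivial (S ⊗[A] R)] :
    IsLocalRing (S ⊗[A] R) := by
  classical
  have key : ∀ x : S ⊗[A] R, ∃ c : R, x - (1 : S) ⊗ₜ c ∈ (IsLocalRing.maximalIdeal S).map
      (algebraMap S (S ⊗[A] R)) := by
    intro x
    induction x using TensorProduct.induction_on with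
    | zero => exact ⟨0, by simp⟩
    | tmul s r =>
      obtain ⟨a, ha⟩ := hres s
      refine ⟨a • r, ?_⟩
      have he : s ⊗ₜ[A] r - (1 : S) ⊗ₜ (a • r) = (1 : S) ⊗ₜ r * algebraMap S (S ⊗[A] R) (s - algebraMap A S a) := by
        rw [Algebra.TensorProduct.algebraMap_apply, Algebra.algebraMap_self, RingHom.id_apply,
          Algebra.TensorProduct.tmul_mul_tmul, one_mul, mul_one, sub_tmul, Algebra.algebraMap_eq_smul_one,
          TensorProduct.smul_tmul]
      rw [he]
      exact Ideal.mul_mem_left _ _ (Ideal.mem_map_of_mem _ ha)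
    | add x y hx hy =>
      obtain ⟨c, hc⟩ := hx
      obtain ⟨d, hd⟩ := hy
      exact ⟨c + d, by rw [tmul_add, add_sub_add_comm]; exact add_mem hc hd⟩
  have hmax : ∀ M : Ideal (S ⊗[A] R), M.IsMaximal →
      (IsLocalRing.maximalIdeal S).map (algebraMap S (S ⊗[A] R)) ≤ M ∧
        ∀ c ∈ IsLocalRing.maximalIdeal R, (1 : S) ⊗ₜ[A] c ∈ M := by
    intro M hM
    haveI := hM
    have h1 : M.comap (algebraMap S (S ⊗[A] R)) = IsLocalRing.maximalIdeal S :=
      IsLocalRing.eq_maximalIdeal (Ideal.isMaximal_comap_of_isIntegral_of_isMaximal M)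
    refine ⟨Ideal.map_le_iff_le_comap.2 h1.ge, ?_⟩
    let f := (Algebra.TensorProduct.includeRight (R := A) (A := S) (B := R)).toRingHom
    haveI : (M.comap f).IsPrime := Ideal.IsPrime.comap _
    have h2 : (M.comap f).comap (algebraMap A R) = IsLocalRing.maximalIdeal A := by
      have hf : f.comp (algebraMap A R) = (algebraMap S (S ⊗[A] R)).comp (algebraMap A S) :=
        RingHom.ext fun a => ((Algebra.TensorProduct.includeRight (R := A) (A := S) (B := R)).commutes a).trans
          (IsScalarTower.algebraMap_apply A S (S ⊗[A] R) a)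
      rw [Ideal.comap_comap, hf, ← Ideal.comap_comap, h1]
      exact IsLocalRing.maximalIdeal_comap (algebraMap A S)
    have h3 : (M.comap f).IsMaximal :=
      Ideal.isMaximal_of_isIntegral_of_isMaximal_comap (R := A) (M.comap f) (h2 ▸ inferInstance)
    intro c hc
    rw [← IsLocalRing.eq_maximalIdeal h3] at hc
    exact hc
  refine IsLocalRing.of_isUnit_or_isUnit_one_sub_self fun x => ?_
  obtain ⟨c, hc⟩ := key x
  have unit_of : ∀ (y : S ⊗[A] R) (d : R), IsUnit d →
      y - (1 : S) ⊗ₜ d ∈ (IsLocalRing.maximalIdeal S).map (algebraMap S (S ⊗[A] R)) → IsUnit y := by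
    intro y d hd hy
    by_contra hu
    obtain ⟨M, hM, hyM⟩ := exists_max_ideal_of_mem_nonunits hu
    have h : (1 : S) ⊗ₜ[A] d ∈ M := by
      have := sub_mem hyM ((hmax M hM).1 hy)
      rwa [sub_sub_cancel] at this
    exact hM.ne_top (M.eq_top_of_isUnit_mem h
      (hd.map (Algebra.TensorProduct.includeRight (R := A) (A := S) (B := R))))
  rcases IsLocalRing.isUnit_or_isUnit_one_sub_self c with h | h
  · exact Or.inl (unit_of x c h hc)
  · refine Or.inr (unit_of (1 - x) (1 - c) h ?_)
    rw [tmul_sub, ← Algebra.TensorProduct.one_def, sub_sub_sub_cancel_left, ← neg_sub x, Ideal.neg_mem_iff]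
    exact hc

theorem exists_residue {A : Type u} [CommRing A] [IsNoetherianRing A] [IsLocalRing A] (s : EGA4.Cpl A) :
    ∃ a, s - algebraMap A (EGA4.Cpl A) a ∈ IsLocalRing.maximalIdeal (EGA4.Cpl A) := by
  obtain ⟨a, ha⟩ := Ideal.Quotient.mk_surjective (AdicCompletion.evalOneₐ (IsLocalRing.maximalIdeal A) s)
  refine ⟨a, (IsLocalRing.mem_maximalIdeal _).2 fun hu => ?_⟩
  have h0 : AdicCompletion.evalOneₐ (IsLocalRing.maximalIdeal A) (s - algebraMap A (EGA4.Cpl A) a) = 0 := by
    rw [map_sub, AlgHom.commutes, ← ha, Ideal.Quotient.algebraMap_eq, sub_self]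
  have h1 := hu.map (AdicCompletion.evalOneₐ (IsLocalRing.maximalIdeal A))
  rw [h0] at h1
  exact not_isUnit_zero h1

variable {A : Type u} [CommRing A] [IsNoetherianRing A] [HenselianLocalRing A]

/-- Over a henselian ring with geometrically normal formal fibres, completions of normal integral
extensions are domains. -/
theorem isDomain_cpl_tensor (h : EGA4.HasGeomNormalFormalFibres A) (R : Type u) [CommRing R] [IsDomain R]
    [IsIntegrallyClosed R] [Algebra A R] [Algebra.IsIntegral A R] : IsDomain (EGA4.Cpl A ⊗[A] R) := by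
  haveI : IsLocalRing R := Henselian.Unibranch.isLocalRing_of_isDomain A R
  haveI : Module.FaithfullyFlat A (EGA4.Cpl A) := Module.FaithfullyFlat.of_flat_of_isLocalHom
  haveI : Nontrivial (EGA4.Cpl A ⊗[A] R) := Module.FaithfullyFlat.lTensor_nontrivial A (EGA4.Cpl A) R
  haveI := isLocalRing_tensor (S := EGA4.Cpl A) (R := R) exists_residue
  exact isDomain_of_isNormalRing_local
    (BaseChange.isNormalRing_tensor (isNormalHom_cpl h) Main.isNormalRing_of_domain)

/-- A henselian domain with geometrically normal formal fibres is analytically irreducible. -/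
theorem isDomain_cpl [IsDomain A] (h : EGA4.HasGeomNormalFormalFibres A) : IsDomain (EGA4.Cpl A) := by
  haveI : Algebra.IsAlgebraic A (FractionRing A) :=
    (IsFractionRing.comap_isAlgebraic_iff (A := A) (K := FractionRing A) (C := FractionRing A)).2 inferInstance
  let R := integralClosure A (FractionRing A)
  haveI : IsFractionRing R (FractionRing A) :=
    integralClosure.isFractionRing_of_algebraic fun x hx =>
      IsFractionRing.injective A (FractionRing A) (hx.trans (map_zero _).symm)
  haveI : IsIntegrallyClosed R := (isIntegrallyClosed_iff (FractionRing A)).2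
    fun {x} hx => ⟨⟨x, isIntegral_trans (R := A) x hx⟩, rfl⟩
  haveI := isDomain_cpl_tensor h R
  refine Function.Injective.isDomain (Algebra.TensorProduct.includeLeft : EGA4.Cpl A →ₐ[A] EGA4.Cpl A ⊗[A] R).toRingHom ?_
  exact Algebra.TensorProduct.includeLeft_injective (S := A)
    (FaithfulSMul.algebraMap_injective A R)

/-- Formal fibres stay integral after algebraic extensions. -/
theorem isDomain_cpl_tensor_field (h : EGA4.HasGeomNormalFormalFibres A) (p : Ideal A) [p.IsPrime]
    (L : Type u) [Field L] [Algebra p.ResidueField L] [Algebra.IsAlgebraic p.ResidueField L] :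
    IsDomain (L ⊗[p.ResidueField] EGA4.formalFibre A p) := by
  letI : Algebra A L := ((algebraMap p.ResidueField L).comp (algebraMap A p.ResidueField)).toAlgebra
  haveI : IsScalarTower A p.ResidueField L := IsScalarTower.of_algebraMap_eq fun _ => rfl
  letI : Algebra (A ⧸ p) L := ((algebraMap p.ResidueField L).comp (algebraMap (A ⧸ p) p.ResidueField)).toAlgebra
  haveI : IsScalarTower (A ⧸ p) p.ResidueField L := IsScalarTower.of_algebraMap_eq fun _ => rfl
  haveI : Algebra.IsAlgebraic (A ⧸ p) L :=
    (IsFractionRing.comap_isAlgebraic_iff (A := A ⧸ p) (K := p.ResidueField) (C := L)).2 ‹_›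
  let R := integralClosure (A ⧸ p) L
  haveI : IsScalarTower A (A ⧸ p) L := IsScalarTower.of_algebraMap_eq fun a => by
    show algebraMap p.ResidueField L (algebraMap A p.ResidueField a) = _
    rw [IsScalarTower.algebraMap_apply A (A ⧸ p) p.ResidueField]
    rfl
  have hinj : Function.Injective (algebraMap (A ⧸ p) L) :=
    (algebraMap p.ResidueField L).injective.comp (Ideal.injective_algebraMap_quotient_residueField p)
  haveI : IsFractionRing R L :=
    integralClosure.isFractionRing_of_algebraic fun x hx => hinj (hx.trans (map_zero _).symm)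
  haveI : IsIntegrallyClosed R := (isIntegrallyClosed_iff L).2
    fun {x} hx => ⟨⟨x, isIntegral_trans (R := A ⧸ p) x hx⟩, rfl⟩
  haveI : Algebra.IsIntegral A R := Algebra.IsIntegral.trans (A ⧸ p)
  haveI := isDomain_cpl_tensor h R
  haveI : IsScalarTower A R L := IsScalarTower.of_algebraMap_eq fun a => IsScalarTower.algebraMap_apply A (A ⧸ p) L a
  let S := EGA4.Cpl A
  haveI : Module.FaithfullyFlat A S := Module.FaithfullyFlat.of_flat_of_isLocalHom
  let ι := Algebra.TensorProduct.includeRight (R := A) (A := S) (B := R)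
  letI : Algebra (S ⊗[A] R) (S ⊗[A] L) :=
    (Algebra.TensorProduct.map (AlgHom.id A S) (IsScalarTower.toAlgHom A R L)).toRingHom.toAlgebra
  haveI : IsScalarTower S (S ⊗[A] R) (S ⊗[A] L) :=
    IsScalarTower.of_algebraMap_eq (R := S) (S := S ⊗[A] R) (A := S ⊗[A] L) fun x => by
      simp [RingHom.algebraMap_toAlgebra]
  haveI := IsLocalization.tensorProduct_tensorProduct_right A S (nonZeroDivisors R) L
    (by ext; simp [RingHom.algebraMap_toAlgebra])
  have hM : (nonZeroDivisors R).map ι ≤ nonZeroDivisors (S ⊗[A] R) := by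
    rintro _ ⟨r, hr, rfl⟩
    refine mem_nonZeroDivisors_of_ne_zero fun h0 => nonZeroDivisors.ne_zero hr ?_
    exact Module.FaithfullyFlat.tensorProduct_mk_injective (A := A) (B := S) R
      (h0.trans (map_zero _).symm)
  haveI : IsDomain (S ⊗[A] L) := IsLocalization.isDomain_of_le_nonZeroDivisors _ hM
  exact MulEquiv.isDomain (S ⊗[A] L) ((Algebra.TensorProduct.cancelBaseChange A p.ResidueField L L S).toRingEquiv.trans
    (Algebra.TensorProduct.comm A L S).toRingEquiv).toMulEquiv

end Groth.Agent.Lib.NormalTensor.Formal
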